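import Cfsg.Agent.Lib.Chev.TwMult.Lift
import Cfsg.Agent.Lib.Concrete.SLTwoMultiplier

/-!
The rank one input: `SL(2, q)` has no stem extension with kernel of prime order different from the characteristic.
-/

set_option autoImplicit false
set_option linter.unusedSectionVars false

namespace Cfsg.Lib.Chev.TwMult

open Subgroup MultW
open scoped commutatorElement MatrixGroups

universe u

/-- No stem extension with kernel of order `r`. -/
def NoStemPrime (r : ℕ) (S : Type u) [Group S] : Prop :=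
  ∀ (Γ : Type u) [Group Γ] [Finite Γ] (σ : Γ →* S), Function.Surjective σ → σ.ker ≤ center Γ →
    Nat.card σ.ker = r → ¬ σ.ker ≤ commutator Γ

theorem noStem_of_trivial {r : ℕ} (hr : r.Prime) {S : Type u} [Group S]
    (h : Cfsg.HasCyclicSchurMultiplier S 1) : NoStemPrime r S := by
  intro Γ _ _ σ hs hc hcard hle
  obtain ⟨π, hπ⟩ := h.2 Γ σ ⟨hs, hc, hle⟩
  haveI : Subsingleton (Multiplicative (ZMod 1)) := inferInstanceAs (Subsingleton (ZMod 1))
  haveI := hπ.subsingleton
  rw [Nat.card_eq_one_iff_unique.2 ⟨inferInstance, inferInstance⟩] at hcard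
  exact hr.ne_one hcard.symm

/-- The reduction to a Sylow subgroup. -/
theorem noStem_of_sylow {r : ℕ} [hr : Fact r.Prime] {S : Type u} [Group S] [Finite S] (P : Sylow r S)
    (h : Cfsg.HasCyclicSchurMultiplier ↥(P : Subgroup S) 1) : NoStemPrime r S := by
  intro Γ _ _ σ hs hc hcard
  refine not_le_of_meet hs hc hcard P (eq_bot_iff.2 fun x hx => ?_)
  by_contra hx1
  let E := (P : Subgroup S).comap σ
  have hEk : σ.ker ≤ E := fun x hx => by
    show σ x ∈ (P : Subgroup S); rw [MonoidHom.mem_ker.1 hx]; exact one_mem _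
  let τ : ↥E →* ↥(P : Subgroup S) := (σ.comp E.subtype).codRestrict _ fun y => y.2
  have hτs : Function.Surjective τ := fun g => by
    obtain ⟨y, hy⟩ := hs g
    exact ⟨⟨y, show σ y ∈ (P : Subgroup S) by rw [hy]; exact g.2⟩, Subtype.ext hy⟩
  have hτk : τ.ker = σ.ker.subgroupOf E := by
    ext y; exact Subtype.ext_iff
  have hτc : τ.ker ≤ center ↥E := fun y hy => mem_center_iff.2 fun g => Subtype.ext
    (mem_center_iff.1 (hc (by rw [hτk] at hy; exact hy)) g)
  have hτcard : Nat.card τ.ker = r := by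
    rw [hτk, ← hcard]; exact Nat.card_congr (Subgroup.subgroupOfEquivOfLe hEk).toEquiv
  refine noStem_of_trivial hr.out h ↥E τ hτs hτc hτcard fun y hy => ?_
  rw [hτk, Subgroup.mem_subgroupOf] at hy
  have hgen : (y : Γ) ∈ zpowers x := by
    haveI : Fact (Nat.Prime r) := hr
    have hx' : x ∈ σ.ker := hx.2
    have h1 := eq_top_of_card_eq (zpowers (⟨x, hx'⟩ : σ.ker)) (by
      rw [Nat.card_zpowers, orderOf_eq_prime (p := r) (hcard ▸ pow_card_eq_one')
        (fun e => hx1 (by simpa using congrArg Subtype.val e)), hcard])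
    obtain ⟨k, hk⟩ := mem_zpowers_iff.1 (h1 ▸ mem_top (⟨y, hy⟩ : σ.ker) : (⟨(y : Γ), hy⟩ : σ.ker) ∈ zpowers _)
    exact ⟨k, by simpa using congrArg Subtype.val hk⟩
  have h4 : ((commutator ↥E).map E.subtype) = ⁅E, E⁆ := by
    rw [_root_.commutator_def, Subgroup.map_commutator, ← MonoidHom.range_eq_map, range_subtype]
  have hy' : (y : Γ) ∈ ((commutator ↥E).map E.subtype) := h4 ▸ zpowers_le.2 hx.1 hgen
  obtain ⟨z, hz, e⟩ := hy'
  rwa [← (Subtype.ext e : z = y)]

variable {K : Type u} [Field K] [Fintype K]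

theorem quaternion_trivial {P : Type u} [Group P] [Finite P] (n : ℕ) [NeZero n] (e : P ≃* QuaternionGroup n) :
    Cfsg.HasCyclicSchurMultiplier P 1 := by
  refine Cfsg.Lib.Concrete.SLTwoMult.trivial_of_equiv (G := ULift.{u} (QuaternionGroup n)) (MulEquiv.ulift.trans e.symm) ?_
  have : Finite (QuaternionGroup n) := Finite.of_equiv _ e.toEquiv
  refine Cfsg.Lib.Chev.trivial_multiplier fun Γ _ _ σ hσ => ?_
  have hk : (MulEquiv.ulift.toMonoidHom.comp σ).ker = σ.ker := by ext x; simp [MonoidHom.mem_ker]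
  have hsub := (Cfsg.Lib.Schur.hasCyclic_one_iff.1 (Cfsg.Agent.S3963.result n))
  obtain ⟨π, hπ⟩ := Cfsg.Lib.Schur.exists_mult_surjection (Cfsg.Lib.Schur.canon (QuaternionGroup n))
    (σ := MulEquiv.ulift.toMonoidHom.comp σ)
    ⟨MulEquiv.ulift.surjective.comp hσ.1, hk ▸ hσ.2.1, hk ▸ hσ.2.2⟩ Cfsg.Lib.Schur.canon_surjective
  refine eq_bot_iff.2 fun x hx => ?_
  rw [← hk] at hx
  obtain ⟨z, hz⟩ := hπ ⟨x, hx⟩
  rw [Subsingleton.elim z 1, map_one] at hz
  exact (congrArg Subtype.val hz.symm :)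

theorem noStem_sl_two {p r : ℕ} [Fact p.Prime] [CharP K p] (hr : r.Prime) (hrp : r ≠ p) :
    NoStemPrime r SL(2, K) := by
  classical
  haveI := Fact.mk hr
  by_cases h49 : Fintype.card K = 4 ∨ Fintype.card K = 9
  · obtain ⟨k, -, hk⟩ := FiniteField.card K p
    have hcard : Nat.card SL(2, K) = Fintype.card K * (Fintype.card K ^ 2 - 1) := Cfsg.Lib.Linear.Two.card_SL_two
    let P : Sylow r SL(2, K) := default
    refine noStem_of_sylow P ?_
    have hPc := P.card_eq_multiplicity
    have hppow : p ∣ Fintype.card K := hk ▸ dvd_pow_self p k.ne_zero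
    by_cases h2 : r = 2 ∧ Fintype.card K = 9
    · obtain ⟨rfl, h9⟩ := h2
      obtain ⟨j, -, ⟨e⟩⟩ := Cfsg.Agent.S0261.result (F := K) (by rw [h9]; decide) P
      exact quaternion_trivial _ e
    have hcyc : IsCyclic ↥(P : Subgroup SL(2, K)) := by
      have hle : (Nat.card SL(2, K)).factorization r ≤ 1 := by
        by_contra hlt
        have hsq : r ^ 2 ∣ Nat.card SL(2, K) :=
          (hr.pow_dvd_iff_le_factorization Nat.card_pos.ne').2 (by omega)
        rw [hcard] at hsq
        have hle : r ^ 2 ≤ 720 := by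
          refine le_trans (Nat.le_of_dvd ?_ hsq) ?_ <;> rcases h49 with h | h <;> rw [h] <;> norm_num
        have hr2 := hr.two_le
        have hr27 : r ≤ 26 := by nlinarith
        rcases h49 with h | h <;> rw [h] at hsq h2 hppow
        · have hp2 : p = 2 := by
            have := (Nat.Prime.dvd_of_dvd_pow (Fact.out : p.Prime) (show p ∣ 2 ^ 2 from hppow))
            exact (Nat.prime_dvd_prime_iff_eq Fact.out Nat.prime_two).1 this
          interval_cases r <;> norm_num at * <;> first | omega | exact absurd hp2.symm hrp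
        · have hp3 : p = 3 := by
            have := (Nat.Prime.dvd_of_dvd_pow (Fact.out : p.Prime) (show p ∣ 3 ^ 2 from hppow))
            exact (Nat.prime_dvd_prime_iff_eq Fact.out Nat.prime_three).1 this
          interval_cases r <;> norm_num at * <;> first | omega | exact absurd hp3.symm hrp
      rcases Nat.le_one_iff_eq_zero_or_eq_one.1 hle with h | h <;> rw [h] at hPc
      · have := (Nat.card_eq_one_iff_unique.1 (hPc.trans (pow_zero r))).1
        exact isCyclic_of_subsingleton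
      · exact isCyclic_of_prime_card (p := r) (by simpa using hPc)
    exact Cfsg.Agent.S3979.result
  · push Not at h49
    exact noStem_of_trivial hr (Cfsg.Lib.Concrete.SLTwoMult.multiplier_sl_two h49.1 h49.2)

namespace RankTwo

variable {p : ℕ} {G Γ : Type u} [Group G] [Group Γ] (D : RankTwo p G) {σ : Γ →* G} [Finite G] [Finite Γ]
  (hs : Function.Surjective σ) (hc : σ.ker ≤ center Γ) [hp : Fact p.Prime]
  {r : ℕ} (hr : r.Prime) (hrp : r ≠ p) (hcard : Nat.card σ.ker = r)
include hs hc hr hrp hcard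

/-- A rank one subgroup isomorphic to a group without stem extensions lifts. -/
theorem liftL_meet {i : Fin 2} {S : Type u} [Group S] (e : ↥(D.L i) ≃* S) (hS : NoStemPrime r S) :
    D.liftL σ i ⊓ σ.ker = ⊥ := by
  let E := (D.L i).comap σ
  have hEk : σ.ker ≤ E := fun x hx => by
    show σ x ∈ D.L i; rw [MonoidHom.mem_ker.1 hx]; exact one_mem _
  let τ : ↥E →* S := e.toMonoidHom.comp ((σ.comp E.subtype).codRestrict (D.L i) fun y => y.2)
  have hτs : Function.Surjective τ := e.surjective.comp fun g => by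
    obtain ⟨y, hy⟩ := hs g
    exact ⟨⟨y, show σ y ∈ D.L i by rw [hy]; exact g.2⟩, Subtype.ext hy⟩
  have hτk : τ.ker = σ.ker.subgroupOf E := by
    ext y
    show e _ = 1 ↔ _
    rw [MulEquiv.map_eq_one_iff]
    exact Subtype.ext_iff
  have hτc : τ.ker ≤ center ↥E := fun y hy => mem_center_iff.2 fun g => Subtype.ext
    (mem_center_iff.1 (hc (by rw [hτk] at hy; exact hy)) g)
  have hτcard : Nat.card τ.ker = r := by
    rw [hτk, ← hcard]; exact Nat.card_congr (Subgroup.subgroupOfEquivOfLe hEk).toEquiv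
  have hno := hS ↥E τ hτs hτc hτcard
  refine eq_bot_iff.2 fun x ⟨hx, hxk⟩ => ?_
  by_contra hx1
  apply hno
  haveI := Fact.mk hr
  let φ : ↥E →* Abelianization ↥E := Abelianization.of
  have hgen : x ∈ ((φ.ker ⊔ ((powMonoidHom (Nat.card ↥D.U) : Abelianization ↥E →* Abelianization ↥E).comp φ).ker) : Subgroup ↥E).map E.subtype := by
    refine (closure_le _).2 ?_ hx
    rintro y (⟨h, hy⟩ | ⟨h, hy⟩) <;>
    · refine ⟨⟨y, show σ y ∈ D.L i from ?_⟩, Subgroup.mem_sup_right ?_, rfl⟩
      · exact subset_closure (by first | exact Or.inl h | exact Or.inr h)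
      · show φ _ ^ _ = 1
        rw [← map_pow]
        exact (congrArg φ (Subtype.ext hy)).trans φ.map_one
  obtain ⟨y, hy, hyx⟩ := hgen
  have hxy : (y : Γ) = x := hyx
  subst hxy
  have hyU : φ y ^ Nat.card ↥D.U = 1 := by
    have hle : φ.ker ⊔ ((powMonoidHom (Nat.card ↥D.U) : Abelianization ↥E →* Abelianization ↥E).comp φ).ker ≤
        ((powMonoidHom (Nat.card ↥D.U) : Abelianization ↥E →* Abelianization ↥E).comp φ).ker :=
      sup_le (fun z hz => by show φ z ^ _ = 1; rw [MonoidHom.mem_ker.1 hz, one_pow]) le_rfl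
    exact hle hy
  have hyr : φ y ^ r = 1 := by
    rw [← map_pow, show y ^ r = 1 from Subtype.ext (by
      have := congrArg Subtype.val (show (⟨(y : Γ), hxk⟩ : σ.ker) ^ r = 1 from hcard ▸ pow_card_eq_one')
      simpa using this), map_one]
  obtain ⟨k, hk⟩ := IsPGroup.iff_card.1 D.pgroup
  have h3 := pow_gcd_eq_one.2 ⟨hyr, hyU⟩
  rw [hk, ((Nat.coprime_primes hr hp.out).2 hrp |>.pow_right k).gcd_eq_one, pow_one] at h3
  have hyc : y ∈ commutator ↥E := (QuotientGroup.eq_one_iff y).1 h3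
  intro z hz
  rw [hτk, Subgroup.mem_subgroupOf] at hz
  have hy1 : (⟨(y : Γ), hxk⟩ : σ.ker) ≠ 1 := fun e => hx1 (Subgroup.mem_bot.2 (by simpa using congrArg Subtype.val e))
  have h1 := eq_top_of_card_eq (zpowers (⟨(y : Γ), hxk⟩ : σ.ker)) (by
    rw [Nat.card_zpowers, orderOf_eq_prime (p := r) (hcard ▸ pow_card_eq_one') hy1, hcard])
  obtain ⟨j, hj⟩ := mem_zpowers_iff.1 (h1 ▸ mem_top (⟨z, hz⟩ : σ.ker) : (⟨(z : Γ), hz⟩ : σ.ker) ∈ zpowers _)
  rw [show z = y ^ j from Subtype.ext (by simpa using (congrArg Subtype.val hj).symm)]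
  exact zpow_mem hyc j

end RankTwo

end Cfsg.Lib.Chev.TwMult
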