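import Cfsg.Agent.Lib.Chev.AnyOrder

/-!
Lists of roots closed from the back: the generated subgroup is the product set, and mixed commutators fall deeper.
-/

set_option autoImplicit false
set_option linter.unusedSectionVars false

namespace Cfsg.Lib.Chev.TwMult

open Cfsg.Lie
open scoped commutatorElement

variable {D : ChevalleyDatum} {T : Tbl} {F : Type*} [Field F] (C : Cert D T)

/-- The subgroup generated by the root subgroups of a list. -/
noncomputable def rootClosure (F : Type*) [Field F] (l : List ℕ) : Subgroup (GL D.Idx F) :=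
  Subgroup.closure {g | ∃ r ∈ l, ∃ t : F, g = xg C r t}

theorem xg_mem_rootClosure {l : List ℕ} {r : ℕ} (hr : r ∈ l) (t : F) : xg C r t ∈ rootClosure C F l :=
  Subgroup.subset_closure ⟨r, hr, t, rfl⟩

theorem rootClosure_mono {l m : List ℕ} (h : l ⊆ m) : rootClosure C F l ≤ rootClosure C F m :=
  Subgroup.closure_mono fun _ ⟨r, hr, t, e⟩ => ⟨r, h hr, t, e⟩

theorem lprod_mem_rootClosure (l : List ℕ) (t : ℕ → F) : lprod C l t ∈ rootClosure C F l :=
  list_prod_mem fun x hx => by
    obtain ⟨r, hr, rfl⟩ := List.mem_map.1 hx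
    exact xg_mem_rootClosure C hr _

/-- The commutator terms of two lists lie in a third. -/
noncomputable def chkTerms (T : Tbl) (A B L : List ℕ) : Bool :=
  A.all fun r => B.all fun s => Nat.beq r s ||
    (!Nat.beq s (T.neg r) && (tTerms T r s).all fun c => L.any (Nat.beq c.1))

/-- A list closed from the back. -/
noncomputable def chkBack (T : Tbl) : List ℕ → Bool
  | [] => true
  | r :: l => chkTerms T [r] l l && chkBack T l

variable (K : CommCert D T)
include K

theorem conj_xg_of_chk {A B L : List ℕ} (h : chkTerms T A B L = true) (hA : ∀ r ∈ A, r < D.nroots)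
    (hB : ∀ r ∈ B, r < D.nroots) {r s : ℕ} (hr : r ∈ A) (hs : s ∈ B) (t u : F) :
    ∃ w ∈ rootClosure C F L, (xg C r t)⁻¹ * xg C s u * xg C r t = xg C s u * w := by
  simp only [chkTerms, List.all_eq_true, Bool.or_eq_true, Bool.and_eq_true, List.any_eq_true,
    Nat.beq_eq, Bool.not_eq_true'] at h
  rcases h r hr s hs with e | ⟨e, hl⟩
  · subst e
    exact ⟨1, one_mem _, by rw [mul_one, xg_inv, xg_add, xg_add]; congr 1; ring⟩
  · have hne : s ≠ T.neg r := fun e' => by
      rw [e', Nat.beq_refl] at e; exact Bool.noConfusion e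
    by_cases hrs : s = r
    · subst hrs
      exact ⟨1, one_mem _, by rw [mul_one, xg_inv, xg_add, xg_add]; congr 1; ring⟩
    have hform := comm_formula K (F := F) (hA r hr) (hB s hs) hrs hne t u
    refine ⟨((D.commWord F r s t u).map fun p => xg C p.1 p.2).prod, list_prod_mem fun x hx => ?_, ?_⟩
    · obtain ⟨p, hp, rfl⟩ := List.mem_map.1 hx
      rw [ChevalleyDatum.commWord, commTerms_eq C (hA r hr) (hB s hs)] at hp
      obtain ⟨c, hc, rfl⟩ := List.mem_map.1 hp
      obtain ⟨y, hy, e2⟩ := hl c hc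
      exact xg_mem_rootClosure C (e2.symm ▸ hy : c.1 ∈ L) _
    · rw [mul_assoc, inv_mul_eq_iff_eq_mul, ← mul_assoc]
      refine Units.ext ?_
      have e3 : ∀ l : List (ℕ × F),
          (((l.map fun p => xg C p.1 p.2).prod : GL D.Idx F) : Matrix D.Idx D.Idx F) = D.wordMat F l := by
        intro l
        induction l with
        | nil => rfl
        | cons p l ih => rw [List.map_cons, List.prod_cons, Units.val_mul, ih, coe_xg, wordMat_cons]
      rw [Units.val_mul, Units.val_mul, Units.val_mul, e3, coe_xg, coe_xg]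
      exact hform

theorem rootClosure_conj {A B : List ℕ} (h : chkTerms T A B B = true) (hA : ∀ r ∈ A, r < D.nroots)
    (hB : ∀ r ∈ B, r < D.nroots) {x : GL D.Idx F} (hx : x ∈ rootClosure C F A) :
    (∀ y ∈ rootClosure C F B, x * y * x⁻¹ ∈ rootClosure C F B) ∧
      ∀ y ∈ rootClosure C F B, x⁻¹ * y * x ∈ rootClosure C F B := by
  have key : ∀ r ∈ A, ∀ t, ∀ y ∈ rootClosure C F B, (xg C r t)⁻¹ * y * xg C r t ∈ rootClosure C F B := by
    intro r hr t y hy
    induction hy using Subgroup.closure_induction with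
    | mem y hy =>
      obtain ⟨s, hs, u, rfl⟩ := hy
      obtain ⟨w, hw, e⟩ := conj_xg_of_chk C K h hA hB hr hs t u
      rw [e]; exact mul_mem (xg_mem_rootClosure C hs u) hw
    | one => simp
    | mul a b _ _ ha hb => have := mul_mem ha hb; simpa [mul_assoc] using this
    | inv a _ ha => have := inv_mem ha; simpa [mul_assoc] using this
  induction hx using Subgroup.closure_induction with
  | mem x hx =>
    obtain ⟨r, hr, t, rfl⟩ := hx
    refine ⟨fun y hy => ?_, key r hr t⟩
    have := key r hr (-t) y hy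
    rwa [← xg_inv, inv_inv] at this
  | one => simp
  | mul a b _ _ ha hb =>
    refine ⟨fun y hy => ?_, fun y hy => ?_⟩
    · rw [show a * b * y * (a * b)⁻¹ = a * (b * y * b⁻¹) * a⁻¹ by group]; exact ha.1 _ (hb.1 y hy)
    · rw [show (a * b)⁻¹ * y * (a * b) = b⁻¹ * (a⁻¹ * y * a) * b by group]; exact hb.2 _ (ha.2 y hy)
  | inv a _ ha => exact ⟨fun y hy => by rw [inv_inv]; exact ha.2 y hy, fun y hy => by rw [inv_inv]; exact ha.1 y hy⟩

/-- Mixed commutators fall into a deeper subgroup. -/
theorem rootClosure_comm {A B L : List ℕ} (h : chkTerms T A B L = true) (hAL : chkTerms T A L L = true)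
    (hBL : chkTerms T B L L = true) (hA : ∀ r ∈ A, r < D.nroots) (hB : ∀ r ∈ B, r < D.nroots)
    (hL : ∀ r ∈ L, r < D.nroots) {x y : GL D.Idx F} (hx : x ∈ rootClosure C F A) (hy : y ∈ rootClosure C F B) :
    ⁅x, y⁆ ∈ rootClosure C F L := by
  induction hx using Subgroup.closure_induction generalizing y with
  | mem x hx =>
    obtain ⟨r, hr, t, rfl⟩ := hx
    induction hy using Subgroup.closure_induction with
    | mem y hy =>
      obtain ⟨s, hs, u, rfl⟩ := hy
      obtain ⟨w, hw, e⟩ := conj_xg_of_chk C K h hA hB hr hs (-t) u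
      rw [← xg_inv, inv_inv] at e
      rw [commutatorElement_def, e]
      exact (rootClosure_conj C K hBL hB hL (xg_mem_rootClosure C hs u)).1 w hw
    | one => simp [commutatorElement_def]
    | mul a b ha _ iha ihb =>
      rw [show ⁅xg C r t, a * b⁆ = ⁅xg C r t, a⁆ * (a * ⁅xg C r t, b⁆ * a⁻¹) by
        simp only [commutatorElement_def]; group]
      exact mul_mem iha ((rootClosure_conj C K hBL hB hL ha).1 _ ihb)
    | inv a ha iha =>
      rw [show ⁅xg C r t, a⁻¹⁆ = a⁻¹ * (⁅xg C r t, a⁆)⁻¹ * a by simp only [commutatorElement_def]; group]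
      exact (rootClosure_conj C K hBL hB hL ha).2 _ (inv_mem iha)
  | one => simp [commutatorElement_def]
  | mul a b ha _ iha ihb =>
    rw [show ⁅a * b, y⁆ = a * ⁅b, y⁆ * a⁻¹ * ⁅a, y⁆ by simp only [commutatorElement_def]; group]
    exact mul_mem ((rootClosure_conj C K hAL hA hL ha).1 _ (ihb hy)) (iha hy)
  | inv a ha iha =>
    rw [show ⁅a⁻¹, y⁆ = a⁻¹ * (⁅a, y⁆)⁻¹ * a by simp only [commutatorElement_def]; group]
    exact (rootClosure_conj C K hAL hA hL ha).2 _ (inv_mem (iha hy))

/-- A list closed from the back spans its product set. -/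
theorem rootClosure_subset_pset : ∀ {l : List ℕ}, chkBack T l = true → l.Nodup → (∀ r ∈ l, r < D.nroots) →
    (rootClosure C F l : Set (GL D.Idx F)) ⊆ Pset C l := by
  intro l
  induction l with
  | nil =>
    intro _ _ _ g hg
    have : rootClosure C F ([] : List ℕ) = ⊥ := by
      rw [rootClosure, show {g : GL D.Idx F | ∃ r ∈ ([] : List ℕ), ∃ t : F, g = xg C r t} = ∅ from
        Set.eq_empty_iff_forall_notMem.2 fun g ⟨r, hr, _⟩ => absurd hr List.not_mem_nil, Subgroup.closure_empty]
    rw [SetLike.mem_coe, this, Subgroup.mem_bot] at hg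
    exact ⟨0, by rw [hg, lprod_nil]⟩
  | cons r l ih =>
    intro hchk hnd hlt g hg
    classical
    simp only [chkBack, Bool.and_eq_true] at hchk
    obtain ⟨hnr, hnd'⟩ := List.nodup_cons.1 hnd
    have hr1 : ∀ x ∈ [r], x < D.nroots := fun x hx => hlt x (by simp at hx; simp [hx])
    have hl1 : ∀ x ∈ l, x < D.nroots := fun x hx => hlt x (List.mem_cons_of_mem _ hx)
    let S : Subgroup (GL D.Idx F) :=
      { carrier := {g | ∃ t : F, ∃ w ∈ rootClosure C F l, g = xg C r t * w}
        one_mem' := ⟨0, 1, one_mem _, by rw [xg_zero, one_mul]⟩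
        mul_mem' := by
          rintro _ _ ⟨a, w, hw, rfl⟩ ⟨b, v, hv, rfl⟩
          refine ⟨a + b, (xg C r b)⁻¹ * w * xg C r b * v, mul_mem
            ((rootClosure_conj C K hchk.1 hr1 hl1 (xg_mem_rootClosure C (List.mem_singleton_self r) b)).2 w hw) hv, ?_⟩
          rw [← xg_add C r a b]; group
        inv_mem' := by
          rintro _ ⟨a, w, hw, rfl⟩
          refine ⟨-a, xg C r a * w⁻¹ * (xg C r a)⁻¹,
            (rootClosure_conj C K hchk.1 hr1 hl1 (xg_mem_rootClosure C (List.mem_singleton_self r) a)).1 _ (inv_mem hw), ?_⟩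
          rw [← xg_inv]; group }
    have hS : g ∈ S := by
      refine (Subgroup.closure_le S).2 ?_ hg
      rintro _ ⟨s, hs, t, rfl⟩
      rcases List.mem_cons.1 hs with rfl | hs
      · exact ⟨t, 1, one_mem _, (mul_one _).symm⟩
      · exact ⟨0, _, xg_mem_rootClosure C hs t, by rw [xg_zero, one_mul]⟩
    obtain ⟨a, w, hw, rfl⟩ := hS
    obtain ⟨t, rfl⟩ := ih hchk.2 hnd' hl1 hw
    refine ⟨Function.update t r a, ?_⟩
    rw [lprod_cons, Function.update_self]
    congr 1
    exact lprod_congr C fun s hs => (Function.update_of_ne (fun e : s = r => hnr (e ▸ hs)) _ _).symm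

end Cfsg.Lib.Chev.TwMult
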