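import Cfsg.Agent.Lib.Chev.TwMult.RankOne

/-!
Passing from a stem extension to one with kernel of prime order, and the assembly of a cyclic multiplier.
-/

set_option autoImplicit false
set_option linter.unusedSectionVars false

namespace Cfsg.Lib.Chev.TwMult

open Subgroup MultW

universe u

variable {G Γ : Type u} [Group G] [Group Γ] {σ : Γ →* G}

/-- A prime dividing the order of the kernel of a stem extension is the order of the kernel of another one. -/
theorem exists_prime_quot [Finite Γ] (hs : Function.Surjective σ) (hc : σ.ker ≤ center Γ)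
    (hle : σ.ker ≤ commutator Γ) {r : ℕ} (hr : r.Prime) (hd : r ∣ Nat.card σ.ker) :
    ∃ (Γ' : Type u) (_ : Group Γ') (_ : Finite Γ') (σ' : Γ' →* G), Function.Surjective σ' ∧
      σ'.ker ≤ center Γ' ∧ Nat.card σ'.ker = r ∧ σ'.ker ≤ commutator Γ' := by
  classical
  haveI := Fact.mk hr
  letI : CommGroup ↥σ.ker := { (inferInstance : Group ↥σ.ker) with
    mul_comm := fun x y => Subtype.ext (mem_center_comm hc y.2 x) }
  let pw : ↥σ.ker →* ↥σ.ker := powMonoidHom r
  have hns : ¬ Function.Surjective pw := fun h => by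
    obtain ⟨z, hz⟩ := exists_prime_orderOf_dvd_card' (G := ↥σ.ker) r hd
    have h1 : pw z = pw 1 := by
      show z ^ r = 1 ^ r
      rw [one_pow, ← hz, pow_orderOf_eq_one]
    rw [Finite.injective_iff_surjective.2 h h1, orderOf_one] at hz
    exact hr.ne_one hz.symm
  have hne : pw.range ≠ ⊤ := fun e => hns (MonoidHom.range_eq_top.1 e)
  obtain ⟨M₀, ⟨hRM, hM₀⟩, hmax⟩ := (Set.toFinite {M : Subgroup ↥σ.ker | pw.range ≤ M ∧ M ≠ ⊤}).exists_maximalFor
    id _ ⟨pw.range, le_rfl, hne⟩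
  let M : Subgroup Γ := M₀.map σ.ker.subtype
  have hML : M ≤ σ.ker := Subgroup.map_subtype_le M₀
  haveI hMn : M.Normal := ⟨fun n hn g => by
    rw [mem_center_iff.1 (hc (hML hn)) g, mul_inv_cancel_right]; exact hn⟩
  let σ' : Γ ⧸ M →* G := QuotientGroup.lift M σ hML
  have hk' : σ'.ker = σ.ker.map (QuotientGroup.mk' M) := QuotientGroup.ker_lift _ _ _
  refine ⟨Γ ⧸ M, inferInstance, inferInstance, σ', fun g => ?_, ?_, ?_, ?_⟩
  · obtain ⟨x, rfl⟩ := hs g; exact ⟨QuotientGroup.mk x, rfl⟩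
  · rw [hk']
    rintro _ ⟨x, hx, rfl⟩
    refine mem_center_iff.2 fun g => ?_
    obtain ⟨g, rfl⟩ := QuotientGroup.mk_surjective g
    exact congrArg (QuotientGroup.mk' M) (mem_center_iff.1 (hc hx) g)
  · obtain ⟨x, hx⟩ : ∃ x : ↥σ.ker, x ∉ M₀ := by
      by_contra h
      push Not at h
      exact hM₀ (eq_top_iff.2 fun y _ => h y)
    have hgen : M₀ ⊔ zpowers x = ⊤ := by
      by_contra h
      exact hx (hmax ⟨hRM.trans le_sup_left, h⟩ le_sup_left (mem_sup_right (mem_zpowers x)))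
    set π := QuotientGroup.mk' M
    have hx1 : π x ≠ 1 := fun e => by
      obtain ⟨y, hy, e'⟩ := (QuotientGroup.eq_one_iff (N := M) (x : Γ)).1 e
      exact hx ((Subtype.ext e' : y = x) ▸ hy)
    have hxr : π x ^ r = 1 := by
      rw [← map_pow]
      exact (QuotientGroup.eq_one_iff _).2 ⟨x ^ r, hRM ⟨x, rfl⟩, rfl⟩
    have e : σ'.ker = zpowers (π x) := by
      rw [hk']
      refine le_antisymm ?_ (zpowers_le.2 ⟨x, x.2, rfl⟩)
      rintro _ ⟨y, hy, rfl⟩
      obtain ⟨m, hm, z, hz, e⟩ := Subgroup.mem_sup.1 (hgen ▸ mem_top (⟨y, hy⟩ : ↥σ.ker) : (⟨y, hy⟩ : ↥σ.ker) ∈ M₀ ⊔ zpowers x)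
      obtain ⟨k, rfl⟩ := mem_zpowers_iff.1 hz
      have e' : y = (m : Γ) * (x : Γ) ^ k := (congrArg Subtype.val e).symm
      show π y ∈ zpowers (π x)
      rw [e', map_mul, map_zpow, show π m = 1 from (QuotientGroup.eq_one_iff _).2 ⟨m, hm, rfl⟩, one_mul]
      exact zpow_mem (mem_zpowers _) k
    rw [e, Nat.card_zpowers, orderOf_eq_prime hxr hx1]
  · rw [hk', _root_.commutator_def, ← map_top_of_surjective (QuotientGroup.mk' M) (QuotientGroup.mk'_surjective M),
      ← Subgroup.map_commutator, ← _root_.commutator_def]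
    exact map_mono hle

/-- A cyclic multiplier from a bound on all kernels and one extension attaining it. -/
theorem hasCyclic_of_bound [Finite G] {d : ℕ} (hd : d = 1 ∨ d.Prime)
    (hbound : ∀ (Γ : Type u) [Group Γ] [Finite Γ] (σ : Γ →* G), Cfsg.IsStemExtension σ → Nat.card σ.ker ∣ d)
    (hex : ∃ (Γ : Type u) (_ : Group Γ) (_ : Finite Γ) (σ : Γ →* G),
      Cfsg.IsStemExtension σ ∧ d ∣ Nat.card σ.ker) :
    Cfsg.HasCyclicSchurMultiplier G d := by
  have hd0 : d ≠ 0 := by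
    rcases hd with h | h
    · omega
    · exact h.ne_zero
  haveI : NeZero d := ⟨hd0⟩
  have hcyc : ∀ (H : Type u) [Group H] [Finite H], Nat.card H ∣ d →
      ∃ π : Multiplicative (ZMod d) →* H, Function.Surjective π := by
    intro H _ _ hH
    rcases hd with h | h
    · haveI := (Nat.card_eq_one_iff_unique.1 (Nat.dvd_one.1 (h ▸ hH))).1
      exact ⟨1, fun x => ⟨1, Subsingleton.elim _ _⟩⟩
    · rcases (Nat.dvd_prime h).1 hH with e | e
      · haveI := (Nat.card_eq_one_iff_unique.1 e).1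
        exact ⟨1, fun x => ⟨1, Subsingleton.elim _ _⟩⟩
      · haveI := Fact.mk h
        haveI : IsCyclic H := isCyclic_of_prime_card e
        subst e
        let e := zmodCyclicMulEquiv (G := H) inferInstance
        exact ⟨e.toMonoidHom, e.surjective⟩
  obtain ⟨Γ, i1, i2, σ, hσ, hdvd⟩ := hex
  have hcard : Nat.card σ.ker = d := Nat.dvd_antisymm (hbound Γ σ hσ) hdvd
  refine ⟨⟨Γ, i1, i2, σ, hσ, ?_⟩, fun Γ' _ _ σ' hσ' => hcyc _ (hbound Γ' σ' hσ')⟩
  obtain ⟨π, hπ⟩ := hcyc ↥σ.ker hcard.dvd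
  exact ⟨(MulEquiv.ofBijective π ((Nat.bijective_iff_surjective_and_card π).2 ⟨hπ, by
    rw [Nat.card_congr Multiplicative.toAdd, Nat.card_zmod, hcard]⟩)).symm⟩

end Cfsg.Lib.Chev.TwMult
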