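import Cfsg.Agent.Lib.Chev.MultNorm

/-!
The defining-characteristic part of the multiplier: a chain of root groups with torus weights splits in every
central extension with kernel of order `p`.
-/

set_option autoImplicit false
set_option linter.unusedSectionVars false

namespace Cfsg.Lib.Chev.TwMult

open Subgroup MultW
open scoped commutatorElement Pointwise

universe u

/-- The subgroup generated by the root groups below `j`. -/
def spanBelow {K G : Type*} [Group G] (X : ℕ → K → G) (j : ℕ) : Subgroup G :=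
  Subgroup.closure {g | ∃ k < j, ∃ a, X k a = g}

theorem mem_spanBelow {K G : Type*} [Group G] {X : ℕ → K → G} {j k : ℕ} (h : k < j) (a : K) :
    X k a ∈ spanBelow X j := subset_closure ⟨k, h, a, rfl⟩

theorem spanBelow_mono {K G : Type*} [Group G] {X : ℕ → K → G} {j k : ℕ} (h : k ≤ j) :
    spanBelow X k ≤ spanBelow X j :=
  Subgroup.closure_mono fun _ ⟨m, hm, a, e⟩ => ⟨m, hm.trans_le h, a, e⟩

theorem map_spanBelow {K G H : Type*} [Group G] [Group H] {X : ℕ → K → G} (f : G →* H) {Y : ℕ → K → H} {N j : ℕ}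
    (hj : j ≤ N) (h : ∀ k < N, ∀ a, f (X k a) = Y k a) : (spanBelow X j).map f = spanBelow Y j := by
  rw [spanBelow, MonoidHom.map_closure]
  refine congrArg Subgroup.closure (Set.ext fun y => ⟨?_, ?_⟩)
  · rintro ⟨_, ⟨k, hk, a, rfl⟩, rfl⟩
    exact ⟨k, hk, a, (h k (hk.trans_le hj) a).symm⟩
  · rintro ⟨k, hk, a, rfl⟩
    exact ⟨_, ⟨k, hk, a, rfl⟩, h k (hk.trans_le hj) a⟩

/-- Root groups normalised by a commuting family with scalar weights, closed from the top. -/
structure RootChain (K : Type*) [Field K] (G : Type*) [Group G] where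
  N : ℕ
  X : ℕ → K → G
  ι : Type*
  t : ι → G
  lam : ι → ℕ → K
  add : ∀ j < N, ∀ a b, X j (a + b) = X j a * X j b
  comm : ∀ i i', Commute (t i) (t i')
  conj : ∀ i, ∀ j < N, ∀ a, t i * X j a * (t i)⁻¹ = X j (lam i j * a)
  moved : ∀ j < N, ∃ i, lam i j ≠ 1
  closed : ∀ j < N, ∀ k < j, ∀ a b, ⁅X j a, X k b⁆ ∈ spanBelow X k
  inj : ∀ j < N, ∀ a, X j a ∈ spanBelow X j → X j a = 1

namespace RootChain

variable {K : Type*} [Field K] [Finite K] {G Γ : Type u} [Group G] [Group Γ] {σ : Γ →* G}
  (D : RootChain K G) (hs : Function.Surjective σ)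

/-- The root group as a homomorphism. -/
def hom (j : ℕ) (hj : j < D.N) : Multiplicative K →* G :=
  MonoidHom.mk' (fun a => D.X j a.toAdd) fun a b => D.add j hj _ _

theorem X_zero {j : ℕ} (hj : j < D.N) : D.X j 0 = 1 := (D.hom j hj).map_one

/-- The canonical lift of a root element. -/
noncomputable def lift (j : ℕ) (a : K) : Γ :=
  if h : j < D.N then br hs (D.t (D.moved j h).choose) (D.X j (a / (D.lam (D.moved j h).choose j - 1))) else 1

variable (hc : σ.ker ≤ center Γ)
include hc

theorem map_lift {j : ℕ} (hj : j < D.N) (a : K) : σ (D.lift hs j a) = D.X j a := by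
  rw [lift, dif_pos hj, map_br hs hc, commutatorElement_def, D.conj _ j hj]
  have hne := (D.moved j hj).choose_spec
  set l := D.lam (D.moved j hj).choose j
  have e : ∀ b, (D.X j b)⁻¹ = D.X j (-b) := fun b =>
    inv_eq_of_mul_eq_one_right (by rw [← D.add j hj, add_neg_cancel, D.X_zero hj])
  rw [e, ← D.add j hj]
  congr 1
  field_simp [sub_ne_zero.2 hne]
  ring

theorem lift_add {j : ℕ} (hj : j < D.N) (hab : ∀ a b, LComm σ (D.X j a) (D.X j b)) (a b : K) :
    D.lift hs j (a + b) = D.lift hs j a * D.lift hs j b := by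
  have hm := D.map_lift hs hc hj b
  simp only [lift, dif_pos hj] at hm ⊢
  rw [add_div, D.add j hj, br_mul_right hs hc]
  congr 1
  exact mul_inv_eq_of_eq_mul (hab _ _ _ _ (hs _).choose_spec hm)

theorem lift_zero {j : ℕ} (hj : j < D.N) : D.lift hs j 0 = 1 := by
  rw [lift, dif_pos hj, zero_div, D.X_zero hj, br_eq_one_iff hs hc]
  exact lcomm_one hs hc _

theorem lift_conj {j : ℕ} (hj : j < D.N) (i : D.ι) (a : K) (T : Γ) (hT : σ T = D.t i) :
    T * D.lift hs j a * T⁻¹ = D.lift hs j (D.lam i j * a) := by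
  simp only [lift, dif_pos hj]
  rw [← br_conj hs hc, hT, D.conj i j hj, mul_div_assoc]
  congr 1
  rw [(D.comm i _).eq, mul_inv_cancel_right]

theorem lift_eq_one {j : ℕ} (hj : j < D.N) {a : K} (h : D.X j a = 1) : D.lift hs j a = 1 := by
  simp only [lift, dif_pos hj]
  obtain ⟨i, hi⟩ : ∃ i, i = (D.moved j hj).choose := ⟨_, rfl⟩
  have hne : D.lam i j ≠ 1 := hi ▸ (D.moved j hj).choose_spec
  rw [← hi]
  suffices e : D.X j (a / (D.lam i j - 1)) = 1 by rw [e, br_eq_one_iff hs hc]; exact lcomm_one hs hc _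
  classical
  let S := {b : K // D.X j b = 1}
  let f : S → S := fun b => ⟨(D.lam i j - 1) * b.1, by
    rw [sub_mul, one_mul, sub_eq_add_neg, D.add j hj, ← D.conj i j hj, b.2, mul_one, mul_inv_cancel, one_mul]
    have := D.add j hj b.1 (-b.1)
    rw [add_neg_cancel, D.X_zero hj, b.2, one_mul] at this
    exact this.symm⟩
  have hf : Function.Injective f := fun b b' e => Subtype.ext (mul_left_cancel₀ (sub_ne_zero.2 hne) (congrArg Subtype.val e))
  obtain ⟨⟨b, hb⟩, e⟩ := (Finite.injective_iff_surjective.1 hf) ⟨a, h⟩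
  have e' : (D.lam i j - 1) * b = a := congrArg Subtype.val e
  rwa [← e', mul_div_cancel_left₀ _ (sub_ne_zero.2 hne)]

variable (p : ℕ) [Fact p.Prime] [CharP K p]
  (hab : ∀ j < D.N, ∀ a b, LComm σ (D.X j a) (D.X j b))
  (hpair : ∀ j < D.N, ∀ k < j, ∃ i, D.lam i k ≠ 0 ∧ ∀ e : ℕ, D.lam i j ^ p ^ e * D.lam i k ≠ 1)
include hab hpair hs

theorem split : ∀ j ≤ D.N, spanBelow (D.lift hs) j ⊓ σ.ker = ⊥ ∧
    ∀ j' < j, ∀ k < j', ∀ a b, ⁅D.lift hs j' a, D.lift hs k b⁆ ∈ spanBelow (D.lift hs) k := by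
  letI : CommGroup ↥σ.ker := { (inferInstance : Group ↥σ.ker) with
    mul_comm := fun x y => Subtype.ext (mem_center_comm hc y.2 x) }
  intro j
  induction j with
  | zero =>
    intro _
    refine ⟨?_, fun j' h => absurd h (Nat.not_lt_zero _)⟩
    rw [spanBelow, show {g : Γ | ∃ k < 0, ∃ a, D.lift hs k a = g} = ∅ from
      Set.eq_empty_iff_forall_notMem.2 fun g ⟨k, hk, _⟩ => absurd hk (Nat.not_lt_zero _), Subgroup.closure_empty,
      bot_inf_eq]
  | succ j ih =>
    intro hjN
    obtain ⟨hdis, hcl⟩ := ih (Nat.le_of_succ_le hjN)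
    have hj : j < D.N := hjN
    -- conjugation by a lift keeps a lower span once its commutators lie there
    have hnorm : ∀ (x : Γ) (k : ℕ), (∀ m < k, ∀ b, ⁅x, D.lift hs m b⁆ ∈ spanBelow (D.lift hs) m) →
        ∀ w ∈ spanBelow (D.lift hs) k, x * w * x⁻¹ ∈ spanBelow (D.lift hs) k := by
      intro x k hx w hw
      have hle : spanBelow (D.lift hs) k ≤ (spanBelow (D.lift hs) k).comap (MulAut.conj x).toMonoidHom := by
        refine (closure_le _).2 ?_
        rintro _ ⟨m, hm, b, rfl⟩
        show x * D.lift hs m b * x⁻¹ ∈ spanBelow (D.lift hs) k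
        rw [show x * D.lift hs m b * x⁻¹ = ⁅x, D.lift hs m b⁆ * D.lift hs m b by rw [commutatorElement_def]; group]
        exact mul_mem (spanBelow_mono hm.le (hx m hm b)) (mem_spanBelow hm b)
      exact hle hw
    have huniq : ∀ {k : ℕ}, k ≤ j → ∀ {z z' w w' : Γ}, z ∈ σ.ker → z' ∈ σ.ker → w ∈ spanBelow (D.lift hs) k →
        w' ∈ spanBelow (D.lift hs) k → z * w = z' * w' → z = z' := by
      intro k hk z z' w w' hz hz' hw hw' e
      have h1 : z'⁻¹ * z = w' * w⁻¹ := by rw [eq_mul_inv_iff_mul_eq, mul_assoc, e, inv_mul_cancel_left]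
      have h2 : z'⁻¹ * z ∈ spanBelow (D.lift hs) j ⊓ σ.ker :=
        Subgroup.mem_inf.2 ⟨by rw [h1]; exact Subgroup.mul_mem _ (spanBelow_mono hk hw') (Subgroup.inv_mem _ (spanBelow_mono hk hw)),
          Subgroup.mul_mem _ (Subgroup.inv_mem _ hz') hz⟩
      rw [hdis, mem_bot, inv_mul_eq_one] at h2
      exact h2.symm
    have step : ∀ k, k < j → ∀ a b, ⁅D.lift hs j a, D.lift hs k b⁆ ∈ spanBelow (D.lift hs) k := by
      intro k
      induction k using Nat.strong_induction_on with
      | _ k ihk =>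
      intro hk
      have hkN : k < D.N := hk.trans hj
      have hx : ∀ a, ∀ w ∈ spanBelow (D.lift hs) k,
          D.lift hs j a * w * (D.lift hs j a)⁻¹ ∈ spanBelow (D.lift hs) k :=
        fun a => hnorm _ k fun m hm b => ihk m hm (hm.trans hk) a b
      have hy : ∀ b, ∀ w ∈ spanBelow (D.lift hs) k,
          D.lift hs k b * w * (D.lift hs k b)⁻¹ ∈ spanBelow (D.lift hs) k :=
        fun b => hnorm _ k fun m hm b' => hcl k hk m hm b b'
      have hex : ∀ a b, ∃ z ∈ σ.ker, ∃ w ∈ spanBelow (D.lift hs) k, ⁅D.lift hs j a, D.lift hs k b⁆ = z * w := by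
        intro a b
        have h1 := D.closed j hj k hk a b
        rw [← map_spanBelow σ (N := D.N) hkN.le fun m hm a => D.map_lift hs hc hm a] at h1
        obtain ⟨w, hw, e⟩ := h1
        refine ⟨_, ?_, w, hw, (inv_mul_cancel_right _ w).symm⟩
        rw [MonoidHom.mem_ker, map_mul, map_commutatorElement, D.map_lift hs hc hj, D.map_lift hs hc hkN, map_inv,
          e, mul_inv_cancel]
      choose z hz w hw heq using hex
      let c : K → K → ↥σ.ker := fun a b => ⟨z a b, hz a b⟩
      have hl : ∀ a a' b, c (a + a') b = c a b * c a' b := fun a a' b => Subtype.ext (huniq hk.le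
        (hz _ _) (mul_mem (hz _ _) (hz _ _)) (hw _ _)
        (mul_mem (hx a _ (hw a' b)) (hw a b)) (by
          show z (a + a') b * w (a + a') b = (z a b * z a' b) * _
          rw [← heq, D.lift_add hs hc hj (hab j hj)]
          rw [show ⁅D.lift hs j a * D.lift hs j a', D.lift hs k b⁆ = D.lift hs j a * ⁅D.lift hs j a', D.lift hs k b⁆ *
            (D.lift hs j a)⁻¹ * ⁅D.lift hs j a, D.lift hs k b⁆ by simp only [commutatorElement_def]; group, heq, heq]
          have c1 := mem_center_comm hc (hz a' b) (D.lift hs j a)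
          have c2 : ∀ g, g * z a b = z a b * g := mem_center_comm hc (hz a b)
          calc D.lift hs j a * (z a' b * w a' b) * (D.lift hs j a)⁻¹ * (z a b * w a b)
              = z a' b * (D.lift hs j a * w a' b * (D.lift hs j a)⁻¹ * z a b) * w a b := by
                rw [← mul_assoc (D.lift hs j a), c1]; group
            _ = z a' b * z a b * (D.lift hs j a * w a' b * (D.lift hs j a)⁻¹ * w a b) := by rw [c2]; group
            _ = _ := by rw [mem_center_comm hc (hz a b)]))
      have hr : ∀ a b b', c a (b + b') = c a b * c a b' := fun a b b' => Subtype.ext (huniq hk.le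
        (hz _ _) (mul_mem (hz _ _) (hz _ _)) (hw _ _)
        (mul_mem (hw a b) (hy b _ (hw a b'))) (by
          show z a (b + b') * w a (b + b') = (z a b * z a b') * _
          rw [← heq, D.lift_add hs hc hkN (hab k hkN)]
          rw [show ⁅D.lift hs j a, D.lift hs k b * D.lift hs k b'⁆ = ⁅D.lift hs j a, D.lift hs k b⁆ *
            (D.lift hs k b * ⁅D.lift hs j a, D.lift hs k b'⁆ * (D.lift hs k b)⁻¹) by
              simp only [commutatorElement_def]; group, heq, heq]
          have c1 := mem_center_comm hc (hz a b') (D.lift hs k b)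
          calc z a b * w a b * (D.lift hs k b * (z a b' * w a b') * (D.lift hs k b)⁻¹)
              = z a b * (w a b * z a b') * (D.lift hs k b * w a b' * (D.lift hs k b)⁻¹) := by
                rw [← mul_assoc (D.lift hs k b), c1]; group
            _ = _ := by rw [mem_center_comm hc (hz a b')]; group))
      obtain ⟨i, hmu, hne⟩ := hpair j hj k hk
      obtain ⟨T, hT⟩ := hs (D.t i)
      have hinv : ∀ a b, c (D.lam i j * a) (D.lam i k * b) = c a b := fun a b => Subtype.ext (huniq hk.le
        (hz _ _) (hz a b) (hw _ _) (show T * w a b * T⁻¹ ∈ spanBelow (D.lift hs) k from by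
          have hle : spanBelow (D.lift hs) k ≤ (spanBelow (D.lift hs) k).comap (MulAut.conj T).toMonoidHom := by
            refine (closure_le _).2 ?_
            rintro _ ⟨m, hm, b, rfl⟩
            show T * D.lift hs m b * T⁻¹ ∈ spanBelow (D.lift hs) k
            rw [D.lift_conj hs hc (hm.trans hkN) i b T hT]
            exact mem_spanBelow hm _
          exact hle (hw a b)) (by
          rw [← heq, ← D.lift_conj hs hc hj i a T hT, ← D.lift_conj hs hc hkN i b T hT]
          rw [show ⁅T * D.lift hs j a * T⁻¹, T * D.lift hs k b * T⁻¹⁆ = T * ⁅D.lift hs j a, D.lift hs k b⁆ * T⁻¹ by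
            simp only [commutatorElement_def]; group, heq, ← mul_assoc, mem_center_comm hc (hz a b)]
          show z a b * T * w a b * T⁻¹ = z a b * (T * w a b * T⁻¹)
          group))
      intro a b
      rw [heq, show z a b = 1 from congrArg Subtype.val (pair_trivial p c hl hr hmu hinv hne a b), one_mul]
      exact hw a b
    refine ⟨?_, fun j' hj' => ?_⟩
    · refine eq_bot_iff.2 fun x ⟨hx, hxk⟩ => ?_
      let R : Set Γ := {g | ∃ w ∈ spanBelow (D.lift hs) j, ∃ a, g = w * D.lift hs j a}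
      have hmul : ∀ g ∈ R, ∀ k ≤ j, ∀ a, g * D.lift hs k a ∈ R := by
        rintro g ⟨w, hw, b, rfl⟩ k hk a
        rcases hk.lt_or_eq with hlt | rfl
        · refine ⟨w * (D.lift hs j b * D.lift hs k a * (D.lift hs j b)⁻¹), mul_mem hw
            (hnorm _ j (fun m hm b' => step m hm b b') _ (mem_spanBelow hlt a)), b, ?_⟩
          group
        · exact ⟨w, hw, b + a, by rw [D.lift_add hs hc hj (hab _ hj), mul_assoc]⟩
      have hinv : ∀ k ≤ j, ∀ a, (D.lift hs k a)⁻¹ = D.lift hs k (-a) := fun k hk a =>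
        inv_eq_of_mul_eq_one_right (by
          rw [← D.lift_add hs hc (hk.trans_lt hj) (hab _ (hk.trans_lt hj)), add_neg_cancel,
            D.lift_zero hs hc (hk.trans_lt hj)])
      have hR : x ∈ R := by
        refine Subgroup.closure_induction_right (p := fun g _ => g ∈ R) ?_ ?_ ?_ hx
        · exact ⟨1, one_mem _, 0, by rw [D.lift_zero hs hc hj, one_mul]⟩
        · rintro g y _ ⟨k, hk, a, rfl⟩ hg
          exact hmul g hg k (Nat.lt_succ_iff.1 hk) a
        · rintro g y _ ⟨k, hk, a, rfl⟩ hg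
          rw [hinv k (Nat.lt_succ_iff.1 hk) a]
          exact hmul g hg k (Nat.lt_succ_iff.1 hk) _
      obtain ⟨w, hw, a, rfl⟩ := hR
      replace hxk : σ (w * D.lift hs j a) = 1 := hxk
      rw [map_mul, D.map_lift hs hc hj] at hxk
      have hmem : D.X j a ∈ spanBelow D.X j := by
        rw [← map_spanBelow σ (N := D.N) hj.le fun m hm a => D.map_lift hs hc hm a]
        exact ⟨w⁻¹, inv_mem hw, by rw [map_inv]; exact inv_eq_of_mul_eq_one_right hxk⟩
      show w * D.lift hs j a ∈ (⊥ : Subgroup Γ)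
      rw [D.lift_eq_one hs hc hj (D.inj j hj a hmem), mul_one, Subgroup.mem_bot]
      rw [D.inj j hj a hmem, mul_one] at hxk
      exact (mem_bot.1 (hdis ▸ (⟨hw, hxk⟩ : w ∈ spanBelow (D.lift hs) j ⊓ σ.ker)))
    · rcases (Nat.lt_succ_iff.1 hj').lt_or_eq with h | rfl
      · exact hcl j' h
      · exact step

/-- No stem extension with kernel of order `p`. -/
theorem not_le [Finite Γ] (hcard : Nat.card σ.ker = p) (P : Sylow p G) (hP : (P : Subgroup G) ≤ spanBelow D.X D.N) :
    ¬ σ.ker ≤ commutator Γ := by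
  refine not_le_of_meet hs hc hcard P ?_
  obtain ⟨hdis, -⟩ := D.split hs hc p hab hpair D.N le_rfl
  refine eq_bot_iff.2 ((inf_le_inf_right _ ?_).trans hdis.le)
  rw [commutator_le]
  intro a ha b hb
  have key : ∀ a ∈ (P : Subgroup G).comap σ, ∃ z ∈ σ.ker, ∃ w ∈ spanBelow (D.lift hs) D.N, a = z * w := by
    intro a ha
    have h1 := hP ha
    rw [← map_spanBelow σ (N := D.N) le_rfl fun m hm a => D.map_lift hs hc hm a] at h1
    obtain ⟨w, hw, e⟩ := h1
    exact ⟨a * w⁻¹, by rw [MonoidHom.mem_ker, map_mul, map_inv, e, mul_inv_cancel], w, hw, (inv_mul_cancel_right a w).symm⟩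
  obtain ⟨z, hz, w, hw, rfl⟩ := key a ha
  obtain ⟨z', hz', w', hw', rfl⟩ := key b hb
  rw [Cfsg.Lib.Schur.commutatorElement_mul_central (hc hz) (hc hz')]
  rw [commutatorElement_def]
  exact mul_mem (mul_mem (mul_mem hw hw') (inv_mem hw)) (inv_mem hw')

end RootChain

end Cfsg.Lib.Chev.TwMult
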