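import Cfsg.Agent.Lib.Chev.TwMult.RootChain

/-!
The defining-characteristic part of the multiplier from layers: a filtration whose layers are moved by a commuting
family and pairwise separated by their weights splits in every central extension with kernel of order `p`.
-/

set_option autoImplicit false
set_option linter.unusedSectionVars false

namespace Cfsg.Lib.Chev.TwMult

open Subgroup MultW
open scoped commutatorElement

universe u

/-- Layers normalised by a commuting family with scalar weights, read modulo the layers below. -/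
structure LayerChain (K : Type*) [Field K] (G : Type*) [Group G] where
  N : ℕ
  X : ℕ → K → G
  ι : Type*
  t : ι → G
  lam : ι → ℕ → K
  add : ∀ j < N, ∀ a b, (X j a * X j b)⁻¹ * X j (a + b) ∈ spanBelow X j
  comm : ∀ i i', Commute (t i) (t i')
  conj : ∀ i, ∀ j < N, ∀ a, (X j (lam i j * a))⁻¹ * (t i * X j a * (t i)⁻¹) ∈ spanBelow X j
  moved : ∀ j < N, ∃ i, lam i j ≠ 1
  closed : ∀ j < N, ∀ k ≤ j, ∀ a b, ⁅X j a, X k b⁆ ∈ spanBelow X k
  inj : ∀ j < N, ∀ i a, lam i j ≠ 1 → X j a ∈ spanBelow X j → X j (a / (lam i j - 1)) ∈ spanBelow X j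

variable {G Γ : Type u} [Group G] [Group Γ]

/-- A finite conjugation stable subgroup is normalised. -/
theorem mem_normalizer_of_conj [Finite Γ] {M : Subgroup Γ} {x : Γ} (h : ∀ w ∈ M, x * w * x⁻¹ ∈ M) :
    x ∈ normalizer (M : Set Γ) := by
  refine Subgroup.mem_normalizer_iff.2 fun w => ⟨h w, fun hw => ?_⟩
  obtain ⟨⟨v, hv⟩, e⟩ := (Finite.injective_iff_surjective.1
    (show Function.Injective fun v : ↥M => (⟨x * v * x⁻¹, h v v.2⟩ : ↥M) from fun a b e =>
      Subtype.ext (by simpa using congrArg Subtype.val e))) ⟨_, hw⟩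
  have e' : x * v * x⁻¹ = x * w * x⁻¹ := congrArg Subtype.val e
  rw [mul_left_inj, mul_right_inj] at e'
  exact e' ▸ hv

namespace LayerChain

/-- A stage of the splitting. -/
def Stage {K : Type*} [Field K] (D : LayerChain K G) (σ : Γ →* G) (M : Subgroup Γ) (j : ℕ) : Prop :=
  M ⊓ σ.ker = ⊥ ∧ M.map σ = spanBelow D.X j ∧ (∀ g, σ g ∈ spanBelow D.X D.N → g ∈ normalizer (M : Set Γ)) ∧
    ∀ i g, σ g = D.t i → g ∈ normalizer (M : Set Γ)

variable {K : Type*} [Field K] [Finite K] {σ : Γ →* G} (D : LayerChain K G) [Finite Γ]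
  (hs : Function.Surjective σ) (hc : σ.ker ≤ center Γ) (p : ℕ) [Fact p.Prime] [CharP K p]
include hs hc

theorem span_zero : spanBelow D.X 0 = ⊥ := by
  rw [spanBelow, show {g : G | ∃ k < 0, ∃ a, D.X k a = g} = ∅ from
    Set.eq_empty_iff_forall_notMem.2 fun g ⟨k, hk, _⟩ => absurd hk (Nat.not_lt_zero _), Subgroup.closure_empty]

variable (hpair : ∀ j < D.N, ∀ i < D.N, j ≤ i →
  (∃ e, D.lam e j ≠ 0 ∧ ∀ k : ℕ, D.lam e i ^ p ^ k * D.lam e j ≠ 1) ∨ ∀ a b, LComm σ (D.X i a) (D.X j b))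
include hpair

theorem step {M : Subgroup Γ} {j : ℕ} (hj : j < D.N) (hM : D.Stage σ M j) :
    ∃ M' : Subgroup Γ, D.Stage σ M' (j + 1) := by
  obtain ⟨hmeet, hmap, hE, hT⟩ := hM
  set P := normalizer (M : Set Γ)
  haveI hnormal : (M.subgroupOf P).Normal := Subgroup.normal_subgroupOf_iff_le_normalizer le_normalizer |>.2 le_rfl
  let π : ↥P →* ↥P ⧸ M.subgroupOf P := QuotientGroup.mk' _
  have hker : ∀ z ∈ σ.ker, z ∈ P := fun z hz => hE z (by rw [MonoidHom.mem_ker.1 hz]; exact one_mem _)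
  letI : CommGroup ↥σ.ker := { (inferInstance : Group ↥σ.ker) with
    mul_comm := fun x y => Subtype.ext (mem_center_comm hc y.2 x) }
  let ζ : ↥σ.ker →* ↥P ⧸ M.subgroupOf P := π.comp (Subgroup.inclusion hker)
  have hζinj : Function.Injective ζ := (injective_iff_map_eq_one _).2 fun z hz => by
    have h1 : (z : Γ) ∈ M := Subgroup.mem_subgroupOf.1 ((QuotientGroup.eq_one_iff (N := M.subgroupOf P) (Subgroup.inclusion hker z)).1 hz)
    exact Subtype.ext (Subgroup.mem_bot.1 (hmeet ▸ (⟨h1, z.2⟩ : (z : Γ) ∈ M ⊓ σ.ker)))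
  have hζc : ∀ z q, ζ z * q = q * ζ z := fun z q => by
    obtain ⟨x, rfl⟩ := QuotientGroup.mk'_surjective (M.subgroupOf P) q
    show π _ * π x = π x * π _
    rw [← map_mul, ← map_mul]
    exact congrArg π (Subtype.ext (mem_center_comm hc z.2 (x : Γ)).symm)
  -- elements over the lower layers
  have hlow : ∀ g : ↥P, σ (g : Γ) ∈ spanBelow D.X j → ∃ z, π g = ζ z := fun g hg => by
    rw [← hmap] at hg
    obtain ⟨w, hw, e⟩ := hg
    have hz : (g : Γ) * w⁻¹ ∈ σ.ker := by rw [MonoidHom.mem_ker, map_mul, map_inv, e, mul_inv_cancel]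
    refine ⟨⟨_, hz⟩, ?_⟩
    show π g = π _
    refine (QuotientGroup.eq (s := M.subgroupOf P)).2 ?_
    show (g : Γ)⁻¹ * ((g : Γ) * w⁻¹) ∈ M
    rw [inv_mul_cancel_left]
    exact inv_mem hw
  have hsame : ∀ g g' : ↥P, (σ (g : Γ))⁻¹ * σ (g' : Γ) ∈ spanBelow D.X j → ∃ z, π g' = π g * ζ z := fun g g' h => by
    obtain ⟨z, hz⟩ := hlow (g⁻¹ * g') (by simpa using h)
    exact ⟨z, by rw [← hz, map_mul, map_inv, mul_inv_cancel_left]⟩
  -- representatives of the layers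
  choose B hB using fun (i : ℕ) (a : K) => hs (D.X i a)
  have hBP : ∀ i < D.N, ∀ a, B i a ∈ P := fun i hi a => hE _ (by rw [hB]; exact mem_spanBelow hi a)
  let b : ∀ i < D.N, K → ↥P ⧸ M.subgroupOf P := fun i hi a => π ⟨B i a, hBP i hi a⟩
  choose T hTσ using fun i : D.ι => hs (D.t i)
  let τ : D.ι → ↥P ⧸ M.subgroupOf P := fun i => π ⟨T i, hT i _ (hTσ i)⟩
  have hconjb : ∀ (e : D.ι) i (hi : i < D.N) (a : K), ∃ g : ↥P, σ (g : Γ) ∈ spanBelow D.X i ∧
      τ e * b i hi a * (τ e)⁻¹ = b i hi (D.lam e i * a) * π g := fun e i hi a => by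
    refine ⟨(⟨B i (D.lam e i * a), hBP i hi _⟩ : ↥P)⁻¹ * (⟨T e, hT e _ (hTσ e)⟩ * ⟨B i a, hBP i hi a⟩ *
      (⟨T e, hT e _ (hTσ e)⟩ : ↥P)⁻¹), ?_, ?_⟩
    · simp only [Subgroup.coe_mul, InvMemClass.coe_inv, map_mul, map_inv, hB, hTσ]
      exact D.conj e i hi a
    · simp only [map_mul, map_inv, b, τ, mul_inv_cancel_left]
  -- the layer commutes with all layers above it
  have comm : ∀ i, i ≤ D.N → ∀ g : ↥P, σ (g : Γ) ∈ spanBelow D.X i → ∀ a, Commute (π g) (b j hj a) := by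
    intro i
    induction i with
    | zero =>
      intro _ g hg a
      obtain ⟨z, hz⟩ := hlow g (spanBelow_mono (Nat.zero_le j) hg)
      rw [hz]; exact hζc z _
    | succ i ih =>
      intro hiN g hg a
      have hi : i < D.N := hiN
      by_cases hij : i < j
      · obtain ⟨z, hz⟩ := hlow g (spanBelow_mono hij hg)
        rw [hz]; exact hζc z _
      push Not at hij
      -- the layer itself
      have hlayer : ∀ a' a, Commute (b i hi a') (b j hj a) := by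
        have hexc : ∀ a' a, ∃ z, ⁅b i hi a', b j hj a⁆ = ζ z := fun a' a => by
          rw [show ⁅b i hi a', b j hj a⁆ = π ⁅(⟨B i a', hBP i hi a'⟩ : ↥P), ⟨B j a, hBP j hj a⟩⁆ from
            (map_commutatorElement _ _ _).symm]
          refine hlow _ ?_
          show σ ⁅B i a', B j a⁆ ∈ _
          rw [map_commutatorElement, hB, hB]
          exact D.closed i hi j hij a' a
        rcases hpair j hj i hi hij with ⟨e, hmu, hne⟩ | hex
        swap
        · intro a' a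
          show _ = _
          simp only [b, ← map_mul]
          exact congrArg π (Subtype.ext (hex a' a _ _ (hB _ _) (hB _ _)))
        choose z hz using hexc
        have hbad : ∀ a₁ a₂, ∃ g : ↥P, σ (g : Γ) ∈ spanBelow D.X i ∧ b i hi (a₁ + a₂) = b i hi a₁ * b i hi a₂ * π g :=
          fun a₁ a₂ => by
            refine ⟨((⟨B i a₁, hBP i hi a₁⟩ : ↥P) * ⟨B i a₂, hBP i hi a₂⟩)⁻¹ * ⟨B i (a₁ + a₂), hBP i hi _⟩, ?_, ?_⟩
            · simp only [Subgroup.coe_mul, InvMemClass.coe_inv, map_mul, map_inv, hB]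
              exact D.add i hi a₁ a₂
            · simp only [map_mul, map_inv, b, mul_inv_cancel_left]
        have hl : ∀ a₁ a₂ a, z (a₁ + a₂) a = z a₁ a * z a₂ a := fun a₁ a₂ a => hζinj (by
          obtain ⟨g, hg', e⟩ := hbad a₁ a₂
          rw [map_mul, ← hz, ← hz, ← hz, e]
          have c := ih hi.le g hg' a
          calc ⁅b i hi a₁ * b i hi a₂ * π g, b j hj a⁆
              = b i hi a₁ * (b i hi a₂ * (π g * b j hj a * (π g)⁻¹) * (b i hi a₂)⁻¹) * (b i hi a₁)⁻¹ *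
                  (b j hj a)⁻¹ := by simp only [commutatorElement_def]; group
            _ = b i hi a₁ * ⁅b i hi a₂, b j hj a⁆ * (b j hj a * (b i hi a₁)⁻¹ * (b j hj a)⁻¹) := by
              rw [c.eq, mul_inv_cancel_right, commutatorElement_def]; group
            _ = _ := by
              rw [hz a₂ a, ← hζc, hz a₁ a, mul_assoc (ζ (z a₂ a)), hζc (z a₁ a)]
              rw [← hz a₁ a, commutatorElement_def]
              group)
        have hr : ∀ a' a₁ a₂, z a' (a₁ + a₂) = z a' a₁ * z a' a₂ := fun a' a₁ a₂ => hζinj (by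
          obtain ⟨w, hw⟩ := hsame ((⟨B j a₁, hBP j hj a₁⟩ : ↥P) * ⟨B j a₂, hBP j hj a₂⟩) ⟨B j (a₁ + a₂), hBP j hj _⟩
            (by simp only [Subgroup.coe_mul, map_mul, hB]; exact D.add j hj a₁ a₂)
          rw [map_mul] at hw
          rw [map_mul, ← hz, ← hz, ← hz, show b j hj (a₁ + a₂) = b j hj a₁ * b j hj a₂ * ζ w from hw]
          calc ⁅b i hi a', b j hj a₁ * b j hj a₂ * ζ w⁆
              = b i hi a' * b j hj a₁ * b j hj a₂ * (ζ w * (b i hi a')⁻¹) * (ζ w)⁻¹ * (b j hj a₂)⁻¹ * (b j hj a₁)⁻¹ := by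
                simp only [commutatorElement_def]; group
            _ = ⁅b i hi a', b j hj a₁⁆ * (b j hj a₁ * ⁅b i hi a', b j hj a₂⁆) * (b j hj a₁)⁻¹ := by
              rw [hζc, mul_assoc _ _ (ζ w)⁻¹, mul_assoc (b i hi a')⁻¹, mul_inv_cancel, mul_one]
              simp only [commutatorElement_def]; group
            _ = _ := by rw [hz a' a₂, ← hζc (z a' a₂) (b j hj a₁), mul_assoc, mul_assoc, mul_inv_cancel, mul_one])
        have hinv : ∀ a' a, z (D.lam e i * a') (D.lam e j * a) = z a' a := fun a' a => hζinj (by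
          obtain ⟨gi, hgi, ei⟩ := hconjb e i hi a'
          obtain ⟨gj, hgj, ej⟩ := hconjb e j hj a
          obtain ⟨zj, hzj⟩ := hlow gj hgj
          have hcc := ih hi.le gi hgi (D.lam e j * a)
          rw [← hz, ← hz]
          have e1 : τ e * ⁅b i hi a', b j hj a⁆ * (τ e)⁻¹ = ⁅b i hi a', b j hj a⁆ := by
            rw [hz a' a, ← hζc, mul_inv_cancel_right]
          rw [← e1, show τ e * ⁅b i hi a', b j hj a⁆ * (τ e)⁻¹ =
            ⁅τ e * b i hi a' * (τ e)⁻¹, τ e * b j hj a * (τ e)⁻¹⁆ by simp only [commutatorElement_def]; group, ei, ej, hzj]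
          have key : ∀ {x g y z : ↥P ⧸ M.subgroupOf P}, g * y = y * g → (∀ q, z * q = q * z) →
              ⁅x * g, y * z⁆ = ⁅x, y⁆ := fun {x g y z} h1 h2 => by
            calc ⁅x * g, y * z⁆ = x * (g * y) * (z * (g⁻¹ * x⁻¹)) * z⁻¹ * y⁻¹ := by
                  simp only [commutatorElement_def]; group
              _ = _ := by rw [h1, h2]; simp only [commutatorElement_def]; group
          exact (key hcc.eq (hζc zj)).symm)
        intro a' a
        refine commutatorElement_eq_one_iff_mul_comm.1 ?_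
        rw [hz, pair_trivial p z hl hr hmu hinv hne a' a, map_one]
      have hle : spanBelow D.X (i + 1) ≤ ((Subgroup.centralizer {b j hj a}).comap π).map (σ.comp P.subtype) := by
        refine (Subgroup.closure_le _).2 ?_
        rintro _ ⟨k, hk, a', rfl⟩
        refine ⟨⟨B k a', hBP k (by omega) a'⟩, ?_, hB k a'⟩
        show π _ ∈ Subgroup.centralizer {b j hj a}
        rw [Subgroup.mem_centralizer_singleton_iff]
        rcases (Nat.lt_succ_iff.1 hk).lt_or_eq with hlt | rfl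
        · exact (ih hi.le ⟨B k a', hBP k (by omega) a'⟩ (by rw [hB]; exact mem_spanBelow hlt a') a).eq
        · exact (hlayer a' a).eq
      obtain ⟨h, hh, e⟩ := hle hg
      have hh' : π h * b j hj a = b j hj a * π h := Subgroup.mem_centralizer_singleton_iff.1 hh
      have he : (σ (h : Γ))⁻¹ * σ (g : Γ) ∈ spanBelow D.X j := by
        rw [show σ (h : Γ) = σ (g : Γ) from e, inv_mul_cancel]; exact one_mem _
      obtain ⟨z, hz⟩ := hsame h g he
      rw [hz]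
      exact Commute.mul_left hh' (hζc z _)
  have hbE : ∀ a (g : ↥P), σ (g : Γ) ∈ spanBelow D.X D.N → Commute (π g) (b j hj a) := fun a g hg =>
    comm D.N le_rfl g hg a
  -- canonical elements of the layer
  obtain ⟨e₀, he₀⟩ := D.moved j hj
  set lj := D.lam e₀ j
  have hlj : lj - 1 ≠ 0 := sub_ne_zero.2 he₀
  let Lg : K → ↥P := fun a => ⁅(⟨T e₀, hT e₀ _ (hTσ e₀)⟩ : ↥P), ⟨B j (a / (lj - 1)), hBP j hj _⟩⁆
  let L : K → ↥P ⧸ M.subgroupOf P := fun a => π (Lg a)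
  have hLeq : ∀ a, L a = ⁅τ e₀, b j hj (a / (lj - 1))⁆ := fun a => map_commutatorElement _ _ _
  have hb2 : ∀ a₁ a₂, ∃ z, b j hj (a₁ + a₂) = b j hj a₁ * b j hj a₂ * ζ z := fun a₁ a₂ => by
    obtain ⟨z, hz⟩ := hsame ((⟨B j a₁, hBP j hj a₁⟩ : ↥P) * ⟨B j a₂, hBP j hj a₂⟩) ⟨B j (a₁ + a₂), hBP j hj _⟩
      (by simp only [Subgroup.coe_mul, map_mul, hB]; exact D.add j hj a₁ a₂)
    exact ⟨z, by rw [map_mul] at hz; exact hz⟩
  have hconjj : ∀ e a, ∃ z, τ e * b j hj a * (τ e)⁻¹ = b j hj (D.lam e j * a) * ζ z := fun e a => by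
    obtain ⟨g, hg, h⟩ := hconjb e j hj a
    obtain ⟨z, hz⟩ := hlow g hg
    exact ⟨z, by rw [h, hz]⟩
  have hbb : ∀ a a', Commute (b j hj a) (b j hj a') := fun a a' =>
    hbE a' ⟨B j a, hBP j hj a⟩ (by rw [hB]; exact mem_spanBelow hj a)
  have hcz : ∀ {x y : ↥P ⧸ M.subgroupOf P} (z : ↥σ.ker), ⁅x, y * ζ z⁆ = ⁅x, y⁆ := fun {x y} z => by
    calc ⁅x, y * ζ z⁆ = x * y * (ζ z * x⁻¹) * (ζ z)⁻¹ * y⁻¹ := by simp only [commutatorElement_def]; group
      _ = _ := by rw [hζc]; simp only [commutatorElement_def]; group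
  have hLadd : ∀ a₁ a₂, L (a₁ + a₂) = L a₁ * L a₂ := fun a₁ a₂ => by
    obtain ⟨z, hz⟩ := hb2 (a₁ / (lj - 1)) (a₂ / (lj - 1))
    obtain ⟨z', hz'⟩ := hconjj e₀ (a₂ / (lj - 1))
    rw [hLeq, hLeq, hLeq, add_div, hz, hcz]
    set x := τ e₀
    set y := b j hj (a₁ / (lj - 1))
    set y' := b j hj (a₂ / (lj - 1))
    have hyy : Commute y ⁅x, y'⁆ := by
      rw [commutatorElement_def, hz']
      exact ((hbb _ _).mul_right (hζc z' y).symm).mul_right (hbb _ _).inv_right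
    calc ⁅x, y * y'⁆ = ⁅x, y⁆ * (y * ⁅x, y'⁆ * y⁻¹) := by simp only [commutatorElement_def]; group
      _ = _ := by rw [hyy.eq, mul_inv_cancel_right]
  have hLlam : ∀ e a, τ e * L a * (τ e)⁻¹ = L (D.lam e j * a) := fun e a => by
    obtain ⟨z, hz⟩ := hconjj e (a / (lj - 1))
    have ht : ∃ z', τ e * τ e₀ * (τ e)⁻¹ = τ e₀ * ζ z' := by
      obtain ⟨z', hz'⟩ := hlow ((⟨T e₀, hT e₀ _ (hTσ e₀)⟩ : ↥P)⁻¹ * (⟨T e, hT e _ (hTσ e)⟩ *
        ⟨T e₀, hT e₀ _ (hTσ e₀)⟩ * (⟨T e, hT e _ (hTσ e)⟩ : ↥P)⁻¹)) (by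
          simp only [Subgroup.coe_mul, InvMemClass.coe_inv, map_mul, map_inv, hTσ]
          rw [(D.comm e e₀).eq, mul_inv_cancel_right, inv_mul_cancel]
          exact one_mem _)
      exact ⟨z', by simp only [map_mul, map_inv, inv_mul_eq_iff_eq_mul] at hz'; exact hz'⟩
    obtain ⟨z', hz'⟩ := ht
    rw [hLeq, hLeq, show τ e * ⁅τ e₀, b j hj (a / (lj - 1))⁆ * (τ e)⁻¹ =
      ⁅τ e * τ e₀ * (τ e)⁻¹, τ e * b j hj (a / (lj - 1)) * (τ e)⁻¹⁆ by simp only [commutatorElement_def]; group,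
      hz, hz', hcz, mul_div_assoc]
    set y := b j hj (D.lam e j * (a / (lj - 1)))
    calc ⁅τ e₀ * ζ z', y⁆ = τ e₀ * (ζ z' * y) * (ζ z')⁻¹ * (τ e₀)⁻¹ * y⁻¹ := by
          simp only [commutatorElement_def]; group
      _ = _ := by rw [hζc]; simp only [commutatorElement_def]; group
  have hLσ : ∀ a, (D.X j a)⁻¹ * σ (Lg a : Γ) ∈ spanBelow D.X j := by
    intro a
    have hn : ∀ (x : G) w, (∃ g : ↥P, σ (g : Γ) = x) → w ∈ spanBelow D.X j → x * w * x⁻¹ ∈ spanBelow D.X j := by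
      rintro x w ⟨g, rfl⟩ hw
      rw [← hmap] at hw ⊢
      obtain ⟨v, hv, rfl⟩ := hw
      exact ⟨g * v * (g : Γ)⁻¹, (Subgroup.mem_normalizer_iff.1 g.2 v).1 hv, by simp⟩
    set c := a / (lj - 1)
    obtain ⟨w, hw, hwe⟩ : ∃ w ∈ spanBelow D.X j, D.t e₀ * D.X j c * (D.t e₀)⁻¹ = D.X j (lj * c) * w :=
      ⟨_, D.conj e₀ j hj c, (mul_inv_cancel_left _ _).symm⟩
    obtain ⟨w', hw', he'⟩ : ∃ w' ∈ spanBelow D.X j, D.X j (lj * c) = D.X j a * D.X j c * w' := by
      refine ⟨_, D.add j hj a c, ?_⟩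
      rw [show a + c = lj * c by simp only [c]; field_simp; ring, mul_inv_cancel_left]
    have e : σ (Lg a : Γ) = D.X j a * (D.X j c * (w' * w) * (D.X j c)⁻¹) := by
      show σ ⁅T e₀, B j c⁆ = _
      rw [map_commutatorElement, hTσ, hB, commutatorElement_def, hwe, he']
      group
    rw [e, inv_mul_cancel_left]
    exact hn _ _ ⟨⟨B j c, hBP j hj c⟩, hB j c⟩ (mul_mem hw' hw)
  let R : Multiplicative K →* ↥P ⧸ M.subgroupOf P := MonoidHom.mk' (fun a => L a.toAdd) fun a₁ a₂ => hLadd _ _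
  refine ⟨(R.range.comap π).map P.subtype, eq_bot_iff.2 ?_, le_antisymm ?_ ((Subgroup.closure_le _).2 ?_), fun g hg => ?_,
    fun i g hg => ?_⟩
  · rintro _ ⟨⟨x, ⟨a, ha⟩, rfl⟩, hx⟩
    replace ha : π (Lg a.toAdd) = π x := ha
    have h1 := (QuotientGroup.eq (s := M.subgroupOf P)).1 ha
    have hx1 : σ (x : Γ) = 1 := hx
    have h2 : σ (Lg a.toAdd : Γ) ∈ spanBelow D.X j := by
      have := mem_map_of_mem σ (Subgroup.mem_subgroupOf.1 h1)
      rw [hmap, Subgroup.coe_mul, InvMemClass.coe_inv, map_mul, map_inv, hx1, mul_one] at this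
      exact inv_mem_iff.1 this
    have h3 : D.X j (a.toAdd / (lj - 1)) ∈ spanBelow D.X j := D.inj j hj e₀ _ he₀ (by
      rw [show D.X j a.toAdd = σ (Lg a.toAdd : Γ) * ((D.X j a.toAdd)⁻¹ * σ (Lg a.toAdd : Γ))⁻¹ by group]
      exact mul_mem h2 (inv_mem (hLσ _)))
    have h4 : π x = 1 := by
      obtain ⟨z, hz⟩ := hlow ⟨B j (a.toAdd / (lj - 1)), hBP j hj _⟩ (by
        show σ (B j (a.toAdd / (lj - 1))) ∈ spanBelow D.X j
        rw [hB]; exact h3)
      rw [← ha]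
      show L a.toAdd = 1
      rw [hLeq, show b j hj (a.toAdd / (lj - 1)) = ζ z from hz, commutatorElement_eq_one_iff_mul_comm]
      exact (hζc z _).symm
    exact hmeet ▸ (⟨Subgroup.mem_subgroupOf.1 ((QuotientGroup.eq_one_iff x).1 h4), hx⟩ : (x : Γ) ∈ M ⊓ σ.ker)
  · rintro _ ⟨_, ⟨x, ⟨a, ha⟩, rfl⟩, rfl⟩
    replace ha : π (Lg a.toAdd) = π x := ha
    have h1 := mem_map_of_mem σ (Subgroup.mem_subgroupOf.1 ((QuotientGroup.eq (s := M.subgroupOf P)).1 ha))
    rw [hmap, Subgroup.coe_mul, InvMemClass.coe_inv, map_mul, map_inv] at h1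
    show σ (x : Γ) ∈ _
    rw [show σ (x : Γ) = D.X j a.toAdd * ((D.X j a.toAdd)⁻¹ * σ (Lg a.toAdd : Γ)) * ((σ (Lg a.toAdd : Γ))⁻¹ * σ (x : Γ)) by group]
    exact mul_mem (mul_mem (mem_spanBelow (Nat.lt_succ_self j) _) (spanBelow_mono (Nat.le_succ j) (hLσ _)))
      (spanBelow_mono (Nat.le_succ j) h1)
  · rintro _ ⟨k, hk, a, rfl⟩
    have hlowmem : ∀ y ∈ spanBelow D.X j, y ∈ ((R.range.comap π).map P.subtype).map σ := by
      intro y hy
      rw [← hmap] at hy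
      obtain ⟨v, hv, rfl⟩ := hy
      exact ⟨v, ⟨⟨v, le_normalizer hv⟩, ⟨1, by rw [map_one]; exact ((QuotientGroup.eq_one_iff (N := M.subgroupOf P) (⟨v, le_normalizer hv⟩ : ↥P)).2 hv).symm⟩, rfl⟩, rfl⟩
    rcases (Nat.lt_succ_iff.1 hk).lt_or_eq with hlt | rfl
    · exact hlowmem _ (mem_spanBelow hlt a)
    · have hmem : σ (Lg a : Γ) ∈ ((R.range.comap π).map P.subtype).map σ :=
        ⟨_, ⟨Lg a, ⟨Multiplicative.ofAdd a, rfl⟩, rfl⟩, rfl⟩
      show D.X k a ∈ _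
      rw [show D.X k a = σ (Lg a : Γ) * ((D.X k a)⁻¹ * σ (Lg a : Γ))⁻¹ by group]
      exact mul_mem hmem (inv_mem (hlowmem _ (hLσ a)))
  · refine mem_normalizer_of_conj ?_
    rintro _ ⟨x, ⟨a, ha⟩, rfl⟩
    refine ⟨⟨g, hE g hg⟩ * x * (⟨g, hE g hg⟩ : ↥P)⁻¹, ⟨a, ?_⟩, rfl⟩
    rw [map_mul, map_mul, map_inv, ← ha]
    have c : Commute (π ⟨g, hE g hg⟩) (L a.toAdd) := by
      obtain ⟨z, hz⟩ := hconjj e₀ (a.toAdd / (lj - 1))
      rw [hLeq, commutatorElement_def, hz]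
      exact ((hbE _ _ hg).mul_right (hζc z _).symm).mul_right (hbE _ _ hg).inv_right
    exact (mul_inv_eq_of_eq_mul c.eq).symm
  · refine mem_normalizer_of_conj ?_
    rintro _ ⟨x, ⟨a, ha⟩, rfl⟩
    refine ⟨⟨g, hT i g hg⟩ * x * (⟨g, hT i g hg⟩ : ↥P)⁻¹, ⟨Multiplicative.ofAdd (D.lam i j * a.toAdd), ?_⟩, rfl⟩
    show L (D.lam i j * a.toAdd) = π (⟨g, hT i g hg⟩ * x * (⟨g, hT i g hg⟩ : ↥P)⁻¹)
    rw [map_mul, map_mul, map_inv, ← ha]
    show L (D.lam i j * a.toAdd) = π _ * L a.toAdd * (π _)⁻¹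
    obtain ⟨z, hz⟩ := hsame ⟨T i, hT i _ (hTσ i)⟩ ⟨g, hT i g hg⟩ (by rw [hTσ, hg, inv_mul_cancel]; exact one_mem _)
    rw [hz, ← hLlam i]
    show _ = τ i * ζ z * L a.toAdd * (τ i * ζ z)⁻¹
    rw [mul_assoc (τ i) (ζ z), hζc, _root_.mul_inv_rev]
    group

/-- No stem extension with kernel of order `p`. -/
theorem not_le (hcard : Nat.card σ.ker = p) (P : Sylow p G) (hP : (P : Subgroup G) ≤ spanBelow D.X D.N) :
    ¬ σ.ker ≤ commutator Γ := by
  refine not_le_of_meet hs hc hcard P ?_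
  have hall : ∀ j ≤ D.N, ∃ M : Subgroup Γ, D.Stage σ M j := by
    intro j
    induction j with
    | zero =>
      exact fun _ => ⟨⊥, bot_inf_eq _, by rw [Subgroup.map_bot, D.span_zero hs hc],
        fun g _ => mem_normalizer_of_conj fun w hw => by simp [Subgroup.mem_bot.1 hw],
        fun i g _ => mem_normalizer_of_conj fun w hw => by simp [Subgroup.mem_bot.1 hw]⟩
    | succ j ih =>
      intro hj
      obtain ⟨M, hM⟩ := ih (Nat.le_of_succ_le hj)
      exact D.step hs hc p hpair hj hM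
  obtain ⟨M, hmeet, hmap, -, -⟩ := hall D.N le_rfl
  refine eq_bot_iff.2 ((inf_le_inf_right _ ?_).trans hmeet.le)
  rw [Subgroup.commutator_le]
  have key : ∀ a ∈ (P : Subgroup G).comap σ, ∃ z ∈ σ.ker, ∃ w ∈ M, a = z * w := fun a ha => by
    obtain ⟨w, hw, e⟩ := (hmap.symm ▸ hP ha : σ a ∈ M.map σ)
    exact ⟨a * w⁻¹, by rw [MonoidHom.mem_ker, map_mul, map_inv, e, mul_inv_cancel], w, hw, (inv_mul_cancel_right a w).symm⟩
  intro a ha b hb
  obtain ⟨z, hz, w, hw, rfl⟩ := key a ha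
  obtain ⟨z', hz', w', hw', rfl⟩ := key b hb
  rw [Cfsg.Lib.Schur.commutatorElement_mul_central (hc hz) (hc hz'), commutatorElement_def]
  exact mul_mem (mul_mem (mul_mem hw hw') (inv_mem hw)) (inv_mem hw')

end LayerChain

end Cfsg.Lib.Chev.TwMult
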