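import Cfsg.Agent.Lib.Chev.MultWeights

/-!
The cross-characteristic part of the multiplier: a group of rank two splits in every central extension whose
kernel has prime order different from the characteristic, as soon as its two rank one subgroups do.
-/

set_option autoImplicit false
set_option linter.unusedSectionVars false

namespace Cfsg.Lib.Chev.TwMult

open Subgroup
open scoped commutatorElement Pointwise

universe u

/-- The data of a group of rank two with dihedral Weyl group of order `4 * (half + 1)`. -/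
structure RankTwo (p : ℕ) (G : Type u) [Group G] where
  U : Subgroup G
  H : Subgroup G
  X : Fin 2 → Subgroup G
  Y : Fin 2 → Subgroup G
  V : Fin 2 → Subgroup G
  n : Fin 2 → G
  half : ℕ
  pgroup : IsPGroup p ↥U
  conj_U : ∀ h ∈ H, ∀ u ∈ U, h * u * h⁻¹ ∈ U
  conj_X : ∀ i, ∀ h ∈ H, ∀ x ∈ X i, h * x * h⁻¹ ∈ X i
  conj_Y : ∀ i, ∀ h ∈ H, ∀ x ∈ Y i, h * x * h⁻¹ ∈ Y i
  X_le : ∀ i, X i ≤ U
  V_le : ∀ i, V i ≤ U
  n_X : ∀ i, ∀ x ∈ X i, n i * x * (n i)⁻¹ ∈ Y i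
  n_Y : ∀ i, ∀ y ∈ Y i, n i * y * (n i)⁻¹ ∈ X i
  n_V : ∀ i, ∀ v ∈ V i, n i * v * (n i)⁻¹ ∈ V i
  n_H : ∀ i, ∀ h ∈ H, n i * h * (n i)⁻¹ ∈ H
  n_sq : ∀ i, n i * n i ∈ H
  n_mem : ∀ i, n i ∈ closure ((X i : Set G) ∪ Y i)
  split_U : ∀ i, ∀ u ∈ U, ∃ v ∈ V i, ∃ x ∈ X i, u = v * x
  dec : ∀ i, ∀ y ∈ Y i, ∃ x₁ ∈ X i, ∃ h ∈ H, (y = x₁ * h) ∨ ∃ x₂ ∈ X i, y = x₁ * h * n i * x₂
  dich : ∀ g ∈ closure (Set.range n ∪ (H : Set G)), ∀ i,
    (∀ x ∈ X i, g⁻¹ * x * g ∈ U) ∨ ∀ y ∈ Y i, g⁻¹ * y * g ∈ U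
  H_meet : ∀ h ∈ H, h ∈ closure ((X 0 : Set G) ∪ Y 0) → h ∈ closure ((X 1 : Set G) ∪ Y 1) → h = 1
  H_comm : ∀ a ∈ H, ∀ b ∈ H, a * b = b * a
  N_meet : ∀ g ∈ closure (Set.range n ∪ (H : Set G)), g ∈ U → g = 1
  word : ∀ k : ℕ, (n 0 * n 1) ^ k ∈ H → 2 * (half + 1) ∣ k
  word_odd : ∀ k : ℕ, (n 0 * n 1) ^ k * n 0 ∉ H
  braid_X : ∀ x ∈ X 1, ((n 0 * n 1) ^ half * n 0) * x * ((n 0 * n 1) ^ half * n 0)⁻¹ ∈ X 1
  braid_Y : ∀ x ∈ Y 1, ((n 0 * n 1) ^ half * n 0) * x * ((n 0 * n 1) ^ half * n 0)⁻¹ ∈ Y 1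
  braid : ((n 0 * n 1) ^ half * n 0) * n 1 * ((n 0 * n 1) ^ half * n 0)⁻¹ * (n 1)⁻¹ ∈ H
  gen : closure ((U : Set G) ∪ Set.range n) = ⊤

namespace RankTwo

variable {p : ℕ} {G Γ : Type u} [Group G] [Group Γ] (D : RankTwo p G) (σ : Γ →* G)

/-- The rank one subgroup. -/
def L (i : Fin 2) : Subgroup G := closure ((D.X i : Set G) ∪ D.Y i)

/-- The part of the preimage of a subgroup killed by the order of `U`. -/
def pElts (S : Subgroup G) : Set Γ := {x | σ x ∈ S ∧ x ^ Nat.card ↥D.U = 1}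

/-- The lift of `U`. -/
def liftU : Subgroup Γ := closure (D.pElts σ D.U)

/-- The lift of a rank one subgroup. -/
def liftL (i : Fin 2) : Subgroup Γ := closure (D.pElts σ (D.X i) ∪ D.pElts σ (D.Y i))

/-- The lift of the torus. -/
def liftH : Subgroup Γ := closure {x | ∃ i, x ∈ D.liftL σ i ∧ σ x ∈ D.H}

variable [Finite G] [Finite Γ] {σ} (hs : Function.Surjective σ) (hc : σ.ker ≤ center Γ) [hp : Fact p.Prime]
  {r : ℕ} (hr : r.Prime) (hrp : r ≠ p) (hcard : Nat.card σ.ker = r)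
include hs hc hr hrp hcard

omit hs hc in
theorem ker_pow {z : Γ} (hz : z ∈ σ.ker) (h : z ^ Nat.card ↥D.U = 1) : z = 1 := by
  obtain ⟨k, hk⟩ := IsPGroup.iff_card.1 D.pgroup
  have h1 : z ^ r = 1 := congrArg Subtype.val (show (⟨z, hz⟩ : σ.ker) ^ r = 1 from hcard ▸ pow_card_eq_one')
  have hcop : Nat.Coprime r (Nat.card ↥D.U) := by
    rw [hk]; exact (Nat.coprime_primes hr hp.out).2 hrp |>.pow_right k
  have := pow_gcd_eq_one.2 ⟨h1, h⟩
  rwa [hcop.gcd_eq_one, pow_one] at this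

omit hr hrp hcard in
theorem center_comm {z : Γ} (hz : z ∈ σ.ker) (g : Γ) : g * z = z * g := mem_center_iff.1 (hc hz) g

/-- An element of a `p`-subgroup has a unique lift killed by the order of `U`. -/
theorem exists_pLift {g : G} (hg : g ^ Nat.card ↥D.U = 1) : ∃ x : Γ, σ x = g ∧ x ^ Nat.card ↥D.U = 1 := by
  obtain ⟨k, hk⟩ := IsPGroup.iff_card.1 D.pgroup
  obtain ⟨A, hA⟩ := hs g
  have hz : A ^ Nat.card ↥D.U ∈ σ.ker := by rw [MonoidHom.mem_ker, map_pow, hA, hg]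
  have hcop : Nat.Coprime (Nat.card σ.ker) (Nat.card ↥D.U) := by
    rw [hcard, hk]; exact (Nat.coprime_primes hr hp.out).2 hrp |>.pow_right k
  obtain ⟨w, hw⟩ := (powCoprime hcop).surjective ⟨_, hz⟩
  have hw' : (w : Γ) ^ Nat.card ↥D.U = A ^ Nat.card ↥D.U := congrArg Subtype.val hw
  refine ⟨A * (w : Γ)⁻¹, by rw [map_mul, map_inv, MonoidHom.mem_ker.1 w.2, inv_one, mul_one, hA], ?_⟩
  rw [Commute.mul_pow (show Commute A (w : Γ)⁻¹ from (center_comm hs hc (inv_mem w.2) A)), inv_pow, hw', mul_inv_cancel]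

omit hs hc hr hrp hcard [Finite Γ] in
theorem pow_eq_one {S : Subgroup G} (hS : S ≤ D.U) {g : G} (hg : g ∈ S) : g ^ Nat.card ↥D.U = 1 :=
  congrArg Subtype.val (show (⟨g, hS hg⟩ : ↥D.U) ^ Nat.card ↥D.U = 1 from pow_card_eq_one')

omit hs hc hr hrp hcard [Finite Γ] in
theorem pow_eq_one_Y {i : Fin 2} {g : G} (hg : g ∈ D.Y i) : g ^ Nat.card ↥D.U = 1 := by
  have h := D.pow_eq_one (D.X_le i) (D.n_Y i g hg)
  rwa [conj_pow, conj_eq_one_iff] at h

/-- `U` lifts. -/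
theorem liftU_spec : D.liftU σ ⊓ σ.ker = ⊥ ∧ ∀ x, x ∈ D.liftU σ ↔ σ x ∈ D.U ∧ x ^ Nat.card ↥D.U = 1 := by
  obtain ⟨k, hk⟩ := IsPGroup.iff_card.1 D.pgroup
  let E : Subgroup Γ := D.U.comap σ
  have hmeet : ⁅E, E⁆ ⊓ σ.ker = ⊥ := by
    have hcop : Nat.Coprime (Nat.card σ.ker) (Nat.card ↥D.U) := by
      rw [hcard, hk]; exact (Nat.coprime_primes hr hp.out).2 hrp |>.pow_right k
    have hEk : σ.ker ≤ E := fun x hx => by
      show σ x ∈ D.U; rw [MonoidHom.mem_ker.1 hx]; exact one_mem _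
    let P : Sylow p ↥E := default
    refine eq_bot_iff.2 fun x hx => ?_
    let ψ : ↥E →* ↥D.U := (σ.comp E.subtype).codRestrict D.U fun y => y.2
    have hψ : Function.Surjective ψ := fun u => by
      obtain ⟨y, hy⟩ := hs u
      exact ⟨⟨y, show σ y ∈ D.U by rw [hy]; exact u.2⟩, Subtype.ext hy⟩
    have hPtop : ((P : Subgroup ↥E).map ψ) = ⊤ := by
      have := (P.mapSurjective hψ).3 (Q := ⊤) ((IsPGroup.iff_card.2 ⟨k, hk⟩).to_subgroup ⊤) le_top
      rw [← Sylow.coe_mapSurjective hψ]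
      exact this.symm
    have hfac : ∀ a : ↥E, ∃ z ∈ σ.ker, ∃ w ∈ (P : Subgroup ↥E), (a : Γ) = z * w := fun a => by
      obtain ⟨w, hw, e⟩ := (show ψ a ∈ (P : Subgroup ↥E).map ψ by rw [hPtop]; trivial)
      refine ⟨(a : Γ) * (w : Γ)⁻¹, ?_, w, hw, (inv_mul_cancel_right _ _).symm⟩
      rw [MonoidHom.mem_ker, map_mul, map_inv, show σ (w : Γ) = σ (a : Γ) from congrArg Subtype.val e, mul_inv_cancel]
    have hle : ⁅E, E⁆ ≤ (P : Subgroup ↥E).map E.subtype := by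
      rw [Subgroup.commutator_le]
      intro a ha b hb
      obtain ⟨z, hz, w, hw, e⟩ := hfac ⟨a, ha⟩
      obtain ⟨z', hz', w', hw', e'⟩ := hfac ⟨b, hb⟩
      simp only at e e'
      rw [e, e', Cfsg.Lib.Schur.commutatorElement_mul_central (hc hz) (hc hz')]
      exact ⟨⁅w, w'⁆, mul_mem (mul_mem (mul_mem hw hw') (inv_mem hw)) (inv_mem hw'), map_commutatorElement _ _ _⟩
    obtain ⟨y, hy, rfl⟩ := hle hx.1
    obtain ⟨j, hj⟩ := P.isPGroup'.exists_card_eq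
    have hyP : y ^ p ^ j = 1 := congrArg Subtype.val (show (⟨y, hy⟩ : ↥(P : Subgroup ↥E)) ^ p ^ j = 1 from hj ▸ pow_card_eq_one')
    have h1 : (y : Γ) ^ r = 1 := congrArg Subtype.val (show (⟨(y : Γ), hx.2⟩ : σ.ker) ^ r = 1 from hcard ▸ pow_card_eq_one')
    have h2 : (y : Γ) ^ p ^ j = 1 := by simpa using congrArg Subtype.val hyP
    have h3 := pow_gcd_eq_one.2 ⟨h1, h2⟩
    rw [((Nat.coprime_primes hr hp.out).2 hrp |>.pow_right j).gcd_eq_one, pow_one] at h3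
    exact Subgroup.mem_bot.2 h3
  let S : Subgroup Γ :=
    { carrier := {x | σ x ∈ D.U ∧ x ^ Nat.card ↥D.U = 1}
      one_mem' := ⟨by rw [map_one]; exact one_mem _, one_pow _⟩
      mul_mem' := by
        rintro a b ⟨ha, ha'⟩ ⟨hb, hb'⟩
        have hab : σ (a * b) ∈ D.U := by rw [map_mul]; exact mul_mem ha hb
        refine ⟨hab, ?_⟩
        have hz : (a * b) ^ Nat.card ↥D.U ∈ σ.ker := by
          rw [MonoidHom.mem_ker, map_pow]; exact D.pow_eq_one le_rfl hab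
        have hco : (a * b) ^ Nat.card ↥D.U ∈ ⁅E, E⁆ := by
          let φ : ↥E →* Abelianization ↥E := Abelianization.of
          have : φ ((⟨a, ha⟩ * ⟨b, hb⟩ : ↥E) ^ Nat.card ↥D.U) = 1 := by
            rw [map_pow, map_mul, mul_pow, ← map_pow, ← map_pow,
              show (⟨a, ha⟩ : ↥E) ^ Nat.card ↥D.U = 1 from Subtype.ext ha',
              show (⟨b, hb⟩ : ↥E) ^ Nat.card ↥D.U = 1 from Subtype.ext hb', map_one, one_mul]
          have h4 : ((commutator ↥E).map E.subtype) = ⁅E, E⁆ := by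
            rw [_root_.commutator_def, Subgroup.map_commutator, ← MonoidHom.range_eq_map, range_subtype]
          exact h4 ▸ mem_map_of_mem E.subtype ((QuotientGroup.eq_one_iff _).1 this)
        exact Subgroup.mem_bot.1 (hmeet ▸ (⟨hco, hz⟩ : _ ∈ ⁅E, E⁆ ⊓ σ.ker))
      inv_mem' := fun {a} ⟨ha, ha'⟩ => ⟨by rw [map_inv]; exact inv_mem ha, by rw [inv_pow, ha', inv_one]⟩ }
  have hS : D.liftU σ = S := closure_eq S
  rw [hS]
  exact ⟨eq_bot_iff.2 fun x ⟨hx, hxk⟩ => D.ker_pow hr hrp hcard hxk hx.2, fun x => Iff.rfl⟩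

variable (hL : ∀ i, D.liftL σ i ⊓ σ.ker = ⊥)
include hL

theorem mem_liftL {i : Fin 2} {x : Γ} (hσx : σ x ∈ D.X i ∨ σ x ∈ D.Y i) (hx : x ^ Nat.card ↥D.U = 1) :
    x ∈ D.liftL σ i :=
  subset_closure (hσx.elim (fun h => Or.inl ⟨h, hx⟩) fun h => Or.inr ⟨h, hx⟩)

theorem map_liftL (i : Fin 2) : (D.liftL σ i).map σ = D.L i := by
  refine le_antisymm ?_ ((closure_le _).2 ?_)
  · rw [liftL, MonoidHom.map_closure]
    refine closure_mono ?_
    rintro _ ⟨x, ⟨h, -⟩ | ⟨h, -⟩, rfl⟩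
    exacts [Or.inl h, Or.inr h]
  · rintro g (hg | hg)
    · obtain ⟨x, rfl, hx⟩ := D.exists_pLift hs hc hr hrp hcard (D.pow_eq_one (D.X_le i) hg)
      exact ⟨x, D.mem_liftL hs hc hr hrp hcard hL (Or.inl hg) hx, rfl⟩
    · obtain ⟨x, rfl, hx⟩ := D.exists_pLift hs hc hr hrp hcard (D.pow_eq_one_Y hg)
      exact ⟨x, D.mem_liftL hs hc hr hrp hcard hL (Or.inr hg) hx, rfl⟩

theorem exists_liftL {i : Fin 2} {g : G} (hg : g ∈ D.L i) : ∃ x ∈ D.liftL σ i, σ x = g := by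
  rwa [← D.map_liftL hs hc hr hrp hcard hL i] at hg

theorem liftL_inj {i : Fin 2} {x y : Γ} (hx : x ∈ D.liftL σ i) (hy : y ∈ D.liftL σ i) (e : σ x = σ y) : x = y := by
  have h : x⁻¹ * y ∈ D.liftL σ i ⊓ σ.ker :=
    Subgroup.mem_inf.2 ⟨mul_mem (inv_mem hx) hy, by rw [MonoidHom.mem_ker, map_mul, map_inv, e, inv_mul_cancel]⟩
  rwa [hL i, Subgroup.mem_bot, inv_mul_eq_one] at h

theorem conj_liftL {i : Fin 2} {g : Γ} (hX : ∀ x ∈ D.X i, σ g * x * (σ g)⁻¹ ∈ (D.X i : Set G) ∪ D.Y i)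
    (hY : ∀ x ∈ D.Y i, σ g * x * (σ g)⁻¹ ∈ (D.X i : Set G) ∪ D.Y i) {x : Γ} (hx : x ∈ D.liftL σ i) :
    g * x * g⁻¹ ∈ D.liftL σ i := by
  have hle : D.liftL σ i ≤ (D.liftL σ i).comap (MulAut.conj g).toMonoidHom := by
    refine (closure_le _).2 ?_
    rintro x (⟨h, hp'⟩ | ⟨h, hp'⟩) <;> refine D.mem_liftL hs hc hr hrp hcard hL ?_ ?_
    · show σ (g * x * g⁻¹) ∈ D.X i ∨ σ (g * x * g⁻¹) ∈ D.Y i; rw [map_mul, map_mul, map_inv]; exact hX _ h
    · show (g * x * g⁻¹) ^ _ = 1; rw [conj_pow, hp', mul_one, mul_inv_cancel]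
    · show σ (g * x * g⁻¹) ∈ D.X i ∨ σ (g * x * g⁻¹) ∈ D.Y i; rw [map_mul, map_mul, map_inv]; exact hY _ h
    · show (g * x * g⁻¹) ^ _ = 1; rw [conj_pow, hp', mul_one, mul_inv_cancel]
  exact hle hx

theorem conjH_liftL {i : Fin 2} {g : Γ} (hg : σ g ∈ D.H) {x : Γ} (hx : x ∈ D.liftL σ i) :
    g * x * g⁻¹ ∈ D.liftL σ i :=
  D.conj_liftL hs hc hr hrp hcard hL (fun y hy => Or.inl (D.conj_X i _ hg y hy))
    (fun y hy => Or.inr (D.conj_Y i _ hg y hy)) hx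

theorem map_liftH : (D.liftH σ).map σ ≤ D.H := by
  rw [map_le_iff_le_comap, liftH, closure_le]
  rintro x ⟨i, -, h⟩
  exact h

theorem liftH_mem {i : Fin 2} {x : Γ} (hx : x ∈ D.liftL σ i) (hσx : σ x ∈ D.H) : x ∈ D.liftH σ :=
  subset_closure ⟨i, hx, hσx⟩

theorem liftH_meet : D.liftH σ ⊓ σ.ker = ⊥ := by
  let A : Fin 2 → Subgroup Γ := fun i => D.liftL σ i ⊓ D.H.comap σ
  have hcomm : ∀ a ∈ A 0, ∀ b ∈ A 1, b * a = a * b := by
    intro a ha b hb
    have h1 : b * a * b⁻¹ = a := D.liftL_inj hs hc hr hrp hcard hL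
      (D.conjH_liftL hs hc hr hrp hcard hL hb.2 ha.1) ha.1 (by
        rw [map_mul, map_mul, map_inv, D.H_comm _ hb.2 _ ha.2, mul_inv_cancel_right])
    exact mul_inv_eq_iff_eq_mul.1 h1
  let S : Subgroup Γ :=
    { carrier := {x | ∃ a ∈ A 0, ∃ b ∈ A 1, x = a * b}
      one_mem' := ⟨1, one_mem _, 1, one_mem _, (one_mul 1).symm⟩
      mul_mem' := by
        rintro _ _ ⟨a, ha, b, hb, rfl⟩ ⟨c, hc', d, hd, rfl⟩
        exact ⟨a * c, mul_mem ha hc', b * d, mul_mem hb hd,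
          by rw [show a * b * (c * d) = a * (b * c) * d by group, hcomm c hc' b hb]; group⟩
      inv_mem' := by
        rintro _ ⟨a, ha, b, hb, rfl⟩
        exact ⟨a⁻¹, inv_mem ha, b⁻¹, inv_mem hb,
          by rw [_root_.mul_inv_rev, hcomm _ (inv_mem ha) _ (inv_mem hb)]⟩ }
  refine eq_bot_iff.2 fun x ⟨hx, hxk⟩ => ?_
  have hxS : x ∈ S := by
    refine (closure_le S).2 ?_ hx
    rintro y ⟨i, hy, hyH⟩
    fin_cases i
    · exact ⟨y, ⟨hy, hyH⟩, 1, one_mem _, (mul_one y).symm⟩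
    · exact ⟨1, one_mem _, y, ⟨hy, hyH⟩, (one_mul y).symm⟩
  obtain ⟨a, ha, b, hb, rfl⟩ := hxS
  have e : σ a * σ b = 1 := (map_mul σ a b).symm.trans hxk
  have hmemL : ∀ {i : Fin 2} {y : Γ}, y ∈ D.liftL σ i → σ y ∈ D.L i := fun {i y} hy => by
    rw [← D.map_liftL hs hc hr hrp hcard hL i]; exact mem_map_of_mem σ hy
  have ha1 : σ a = 1 := D.H_meet _ ha.2 (hmemL ha.1) (by
    rw [eq_inv_of_mul_eq_one_left e]; exact inv_mem (hmemL hb.1))
  have hb1 : σ b = 1 := by rwa [ha1, one_mul] at e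
  rw [D.liftL_inj hs hc hr hrp hcard hL ha.1 (one_mem _) (ha1.trans (map_one σ).symm),
    D.liftL_inj hs hc hr hrp hcard hL hb.1 (one_mem _) (hb1.trans (map_one σ).symm), one_mul]
  exact one_mem _

/-- The extension has no stem. -/
theorem not_le : ¬ σ.ker ≤ commutator Γ := by
  obtain ⟨hU0, hUiff⟩ := D.liftU_spec hs hc hr hrp hcard
  choose N hN hNσ using fun i => D.exists_liftL hs hc hr hrp hcard hL (D.n_mem i : D.n i ∈ D.L i)
  have hexU : ∀ {S : Subgroup G}, S ≤ D.U → ∀ g ∈ S, ∃ x ∈ D.liftU σ, σ x = g := by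
    intro S hS g hg
    obtain ⟨x, hxg, hx⟩ := D.exists_pLift hs hc hr hrp hcard (D.pow_eq_one hS hg)
    exact ⟨x, (hUiff x).2 ⟨hxg ▸ hS hg, hx⟩, hxg⟩
  have hconjU : ∀ (g u : Γ), u ∈ D.liftU σ → σ g * σ u * (σ g)⁻¹ ∈ D.U → g * u * g⁻¹ ∈ D.liftU σ := by
    intro g u hu h
    refine (hUiff _).2 ⟨by rw [map_mul, map_mul, map_inv]; exact h, ?_⟩
    rw [conj_pow, ((hUiff u).1 hu).2, mul_one, mul_inv_cancel]
  have hXU : ∀ {i : Fin 2} {x : Γ}, x ∈ D.liftL σ i → σ x ∈ D.X i → x ∈ D.liftU σ := by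
    intro i x hx hσx
    obtain ⟨y, hy, e⟩ := hexU (D.X_le i) _ hσx
    have hyL := D.mem_liftL hs hc hr hrp hcard hL (i := i) (Or.inl (e ▸ hσx)) ((hUiff y).1 hy).2
    rwa [D.liftL_inj hs hc hr hrp hcard hL hx hyL e.symm]
  have hHσ : ∀ {h : Γ}, h ∈ D.liftH σ → σ h ∈ D.H := fun {h} hh =>
    D.map_liftH hs hc hr hrp hcard hL (mem_map_of_mem σ hh)
  have hsq : ∀ i, N i * N i ∈ D.liftH σ := fun i =>
    D.liftH_mem hs hc hr hrp hcard hL (mul_mem (hN i) (hN i)) (by rw [map_mul, hNσ]; exact D.n_sq i)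
  have hNH : ∀ i, ∀ h ∈ D.liftH σ, N i * h * (N i)⁻¹ ∈ D.liftH σ := by
    intro i h hh
    have hle : D.liftH σ ≤ (D.liftH σ).comap (MulAut.conj (N i)).toMonoidHom := by
      refine (closure_le _).2 ?_
      rintro x ⟨j, hx, hxH⟩
      show N i * x * (N i)⁻¹ ∈ D.liftH σ
      rw [show N i * x * (N i)⁻¹ = (N i * (x * (N i)⁻¹ * x⁻¹)) * x by group]
      refine mul_mem (D.liftH_mem hs hc hr hrp hcard hL (i := i)
        (mul_mem (hN i) (D.conjH_liftL hs hc hr hrp hcard hL hxH (inv_mem (hN i)))) ?_)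
        (D.liftH_mem hs hc hr hrp hcard hL hx hxH)
      rw [map_mul, map_mul, map_mul, map_inv, map_inv, hNσ, ← mul_assoc, ← mul_assoc]
      exact mul_mem (D.n_H i _ hxH) (inv_mem hxH)
    exact hle hh
  have hinvH : ∀ i, ∀ h ∈ D.liftH σ, (N i)⁻¹ * h * N i ∈ D.liftH σ := by
    intro i h hh
    have := hNH i _ (mul_mem (mul_mem (inv_mem (hsq i)) hh) (hsq i))
    convert this using 1
    group
  -- the braid relation modulo the torus
  let M : Subgroup Γ :=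
    { carrier := {x | (∀ h ∈ D.liftH σ, x * h * x⁻¹ ∈ D.liftH σ) ∧ ∀ h ∈ D.liftH σ, x⁻¹ * h * x ∈ D.liftH σ}
      one_mem' := by simp
      mul_mem' := by
        rintro a b ⟨ha, ha'⟩ ⟨hb, hb'⟩
        refine ⟨fun h hh => ?_, fun h hh => ?_⟩
        · rw [show a * b * h * (a * b)⁻¹ = a * (b * h * b⁻¹) * a⁻¹ by group]; exact ha _ (hb h hh)
        · rw [show (a * b)⁻¹ * h * (a * b) = b⁻¹ * (a⁻¹ * h * a) * b by group]; exact hb' _ (ha' h hh)
      inv_mem' := by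
        rintro a ⟨ha, ha'⟩
        exact ⟨fun h hh => by rw [inv_inv]; exact ha' h hh, fun h hh => by rw [inv_inv]; exact ha h hh⟩ }
  have hMN : ∀ i, N i ∈ M := fun i => ⟨hNH i, hinvH i⟩
  let Nlift : Subgroup Γ := closure (Set.range N ∪ (D.liftH σ : Set Γ))
  have hMle : Nlift ≤ M := by
    refine (closure_le _).2 ?_
    rintro x (⟨i, rfl⟩ | hx)
    · exact hMN i
    · exact ⟨fun h hh => mul_mem (mul_mem hx hh) (inv_mem hx), fun h hh => mul_mem (mul_mem (inv_mem hx) hh) hx⟩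
  haveI : ((D.liftH σ).subgroupOf M).Normal := ⟨fun h hh g => g.2.1 _ hh⟩
  let π := QuotientGroup.mk' ((D.liftH σ).subgroupOf M)
  have hq : ∀ (x : M), (x : Γ) ∈ D.liftH σ → π x = 1 := fun x hx => (QuotientGroup.eq_one_iff x).2 hx
  have hqi : ∀ (x : M), π x = 1 → (x : Γ) ∈ D.liftH σ := fun x hx => (QuotientGroup.eq_one_iff x).1 hx
  let a := π ⟨N 0, hMN 0⟩
  let b := π ⟨N 1, hMN 1⟩
  have ha2 : a * a = 1 := by
    show π _ * π _ = 1
    rw [← map_mul]; exact hq _ (hsq 0)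
  have hb2 : b * b = 1 := by
    show π _ * π _ = 1
    rw [← map_mul]; exact hq _ (hsq 1)
  have hai : a⁻¹ = a := inv_eq_of_mul_eq_one_right ha2
  have hbi : b⁻¹ = b := inv_eq_of_mul_eq_one_right hb2
  set c := (a * b) ^ D.half * a with hcdef
  have hci : c⁻¹ = c := by
    rw [hcdef, _root_.mul_inv_rev, ← inv_pow, _root_.mul_inv_rev, hai, hbi]
    clear_value a b
    induction D.half with
    | zero => simp
    | succ k ih => rw [pow_succ, ← mul_assoc, ih, pow_succ (a * b)]; simp only [mul_assoc]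
  have hcb : c * b * c⁻¹ = b := by
    let g : M := (⟨N 0, hMN 0⟩ * ⟨N 1, hMN 1⟩) ^ D.half * ⟨N 0, hMN 0⟩
    have hπg : π g = c := by simp only [g, map_mul, map_pow]; rfl
    have hσg : σ (g : Γ) = (D.n 0 * D.n 1) ^ D.half * D.n 0 := by
      simp only [g, Subgroup.coe_mul, SubmonoidClass.coe_pow, map_mul, map_pow, hNσ]
    have h1 : (g : Γ) * N 1 * (g : Γ)⁻¹ ∈ D.liftL σ 1 :=
      D.conj_liftL hs hc hr hrp hcard hL (fun x hx => Or.inl (hσg ▸ D.braid_X x hx))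
        (fun x hx => Or.inr (hσg ▸ D.braid_Y x hx)) (hN 1)
    have h2 : (g : Γ) * N 1 * (g : Γ)⁻¹ * (N 1)⁻¹ ∈ D.liftH σ :=
      D.liftH_mem hs hc hr hrp hcard hL (mul_mem h1 (inv_mem (hN 1))) (by
        simp only [map_mul, map_inv, hσg, hNσ]; exact D.braid)
    have h3 := hq (g * ⟨N 1, hMN 1⟩ * g⁻¹ * (⟨N 1, hMN 1⟩ : M)⁻¹) h2
    rw [map_mul, map_mul, map_mul, map_inv, map_inv, hπg] at h3
    exact mul_inv_eq_one.1 h3
  have hord : (a * b) ^ (2 * (D.half + 1)) = 1 := by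
    have e1 : (a * b) ^ (D.half + 1) = c * b := by simp only [pow_succ, hcdef, mul_assoc]
    rw [two_mul, pow_add, e1]
    calc c * b * (c * b) = (c * b * c) * b := by group
      _ = 1 := by rw [show c * b * c = c * b * c⁻¹ by rw [hci], hcb, hb2]
  have hNmeet : ∀ x ∈ Nlift, σ x ∈ D.H → x ∈ D.liftH σ := by
    intro x hx hxH
    let S : Subgroup M :=
      { carrier := {y | ∃ k : ℕ, π y = (a * b) ^ k ∨ π y = (a * b) ^ k * a}
        one_mem' := ⟨0, Or.inl (by rw [map_one, pow_zero])⟩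
        mul_mem' := by
          have key : ∀ k, a * (a * b) ^ k = (a * b) ^ ((2 * (D.half + 1) - 1) * k) * a := by
            intro k
            have h0 : a * (a * b) * a = (a * b)⁻¹ := by
              rw [_root_.mul_inv_rev, hai, hbi, ← mul_assoc a a b, ha2, one_mul]
            have hz : (a * b)⁻¹ = (a * b) ^ (2 * (D.half + 1) - 1) :=
              inv_eq_of_mul_eq_one_right (by rw [← pow_succ', show 2 * (D.half + 1) - 1 + 1 = 2 * (D.half + 1) by omega, hord])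
            induction k with
            | zero => simp
            | succ k ih =>
              rw [pow_succ, ← mul_assoc, ih, Nat.mul_add_one (2 * (D.half + 1) - 1) k, pow_add, ← hz, _root_.mul_inv_rev, hai, hbi]
              simp only [mul_assoc, ha2, mul_one]
              rw [← mul_assoc a a, ha2, one_mul]
          rintro y z ⟨k, hy⟩ ⟨l, hz⟩
          rcases hy with hy | hy <;> rcases hz with hz | hz
          · exact ⟨k + l, Or.inl (by rw [map_mul, hy, hz, pow_add])⟩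
          · exact ⟨k + l, Or.inr (by rw [map_mul, hy, hz, pow_add, mul_assoc])⟩
          · exact ⟨k + (2 * (D.half + 1) - 1) * l, Or.inr (by rw [map_mul, hy, hz, mul_assoc, key, pow_add, mul_assoc])⟩
          · refine ⟨k + (2 * (D.half + 1) - 1) * l, Or.inl ?_⟩
            rw [map_mul, hy, hz, show (a * b) ^ k * a * ((a * b) ^ l * a) = (a * b) ^ k * (a * (a * b) ^ l) * a by group,
              key, ← mul_assoc, mul_assoc _ a a, ha2, mul_one, pow_add]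
        inv_mem' := by
          rintro y ⟨k, hy⟩
          rcases hy with hy | hy
          · refine ⟨(2 * (D.half + 1) - 1) * k, Or.inl ?_⟩
            rw [map_inv, hy, ← inv_pow, pow_mul]
            congr 1
            exact inv_eq_of_mul_eq_one_right (by rw [← pow_succ', show 2 * (D.half + 1) - 1 + 1 = 2 * (D.half + 1) by omega, hord])
          · refine ⟨k, Or.inr ?_⟩
            rw [map_inv, hy]
            apply inv_eq_of_mul_eq_one_right
            have : ∀ k, a * (a * b) ^ k * a = ((a * b) ^ k)⁻¹ := by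
              intro k
              rw [← inv_pow, _root_.mul_inv_rev, hai, hbi]
              induction k with
              | zero => simp [ha2]
              | succ k ih =>
                rw [pow_succ, pow_succ, ← ih]
                simp [mul_assoc, ha2]
            rw [show (a * b) ^ k * a * ((a * b) ^ k * a) = (a * b) ^ k * (a * (a * b) ^ k * a) by group, this, mul_inv_cancel] }
    have hxS : ∀ y ∈ Nlift, ∃ hy : y ∈ M, (⟨y, hy⟩ : M) ∈ S := by
      intro y hy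
      refine ⟨hMle hy, ?_⟩
      have hle : Nlift ≤ S.map M.subtype := by
        refine (closure_le _).2 ?_
        rintro y (⟨i, rfl⟩ | hy)
        · refine ⟨⟨N i, hMN i⟩, ?_, rfl⟩
          fin_cases i
          · exact ⟨0, Or.inr (by rw [pow_zero, one_mul]; rfl)⟩
          · refine ⟨2 * (D.half + 1) - 1, Or.inr ?_⟩
            show b = (a * b) ^ (2 * (D.half + 1) - 1) * a
            rw [← inv_eq_of_mul_eq_one_right (show a * b * (a * b) ^ (2 * (D.half + 1) - 1) = 1 by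
              rw [← pow_succ', show 2 * (D.half + 1) - 1 + 1 = 2 * (D.half + 1) by omega, hord]),
              _root_.mul_inv_rev, hai, hbi, mul_assoc, ha2, mul_one]
        · exact ⟨⟨y, hMle (subset_closure (Or.inr hy))⟩, ⟨0, Or.inl (by rw [pow_zero]; exact hq _ hy)⟩, rfl⟩
      obtain ⟨z, hz, e⟩ := hle hy
      rwa [show z = ⟨y, hMle hy⟩ from Subtype.ext e] at hz
    obtain ⟨hxM, k, hk⟩ := hxS x hx
    let A : M := (⟨N 0, hMN 0⟩ * ⟨N 1, hMN 1⟩) ^ k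
    have hπA : π A = (a * b) ^ k := by simp only [A, map_pow, map_mul]; rfl
    have hσA : σ (A : Γ) = (D.n 0 * D.n 1) ^ k := by
      simp only [A, SubmonoidClass.coe_pow, Subgroup.coe_mul, map_pow, map_mul, hNσ]
    rcases hk with hk | hk
    · have h1 : ((⟨x, hxM⟩ : M) * A⁻¹ : M).1 ∈ D.liftH σ := hqi _ (by rw [map_mul, map_inv, hk, hπA, mul_inv_cancel])
      have h2 : σ (A : Γ) ∈ D.H := by
        have := mul_mem (inv_mem (hHσ h1)) hxH
        simpa [Subgroup.coe_mul] using this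
      obtain ⟨l, rfl⟩ := D.word k (hσA ▸ h2)
      exact hqi ⟨x, hxM⟩ (by rw [hk, pow_mul, hord, one_pow])
    · exfalso
      have h1 : ((⟨x, hxM⟩ : M) * (A * ⟨N 0, hMN 0⟩)⁻¹ : M).1 ∈ D.liftH σ :=
        hqi _ (by rw [map_mul, map_inv, map_mul, hk, hπA]; exact mul_inv_cancel _)
      refine D.word_odd k ?_
      have := mul_mem (inv_mem (hHσ h1)) hxH
      simpa [Subgroup.coe_mul, hσA, hNσ] using this
  -- the union of the cells
  let R : Set Γ := {g | ∃ u ∈ D.liftU σ, ∃ w ∈ Nlift, ∃ u' ∈ D.liftU σ, g = u * w * u'}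
  have hNσN : ∀ w ∈ Nlift, σ w ∈ closure (Set.range D.n ∪ (D.H : Set G)) := by
    intro w hw
    have hle : Nlift ≤ (closure (Set.range D.n ∪ (D.H : Set G))).comap σ := by
      refine (closure_le _).2 ?_
      rintro y (⟨i, rfl⟩ | hy)
      · exact subset_closure (Or.inl ⟨i, (hNσ i).symm⟩)
      · exact subset_closure (Or.inr (hHσ hy))
    exact hle hw
  have hHU : ∀ h ∈ D.liftH σ, ∀ u ∈ D.liftU σ, h * u * h⁻¹ ∈ D.liftU σ := fun h hh u hu =>
    hconjU h u hu (D.conj_U _ (hHσ hh) _ ((hUiff u).1 hu).1)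
  have hmulN : ∀ i, ∀ g ∈ R, N i * g ∈ R := by
    rintro i g ⟨u, hu, w, hw, u', hu', rfl⟩
    obtain ⟨v, hv, x, hx, e⟩ := D.split_U i _ ((hUiff u).1 hu).1
    obtain ⟨v', hv', hv'σ⟩ := hexU (D.V_le i) v hv
    obtain ⟨x', hx', hx'σ⟩ := hexU (D.X_le i) x hx
    have hux : u = v' * x' := by
      have h : u⁻¹ * (v' * x') ∈ D.liftU σ ⊓ σ.ker := Subgroup.mem_inf.2 ⟨mul_mem (inv_mem hu) (mul_mem hv' hx'),
        by rw [MonoidHom.mem_ker, map_mul, map_inv, map_mul, hv'σ, hx'σ, e, inv_mul_cancel]⟩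
      rwa [hU0, Subgroup.mem_bot, inv_mul_eq_one] at h
    subst hux
    have hv2 : N i * v' * (N i)⁻¹ ∈ D.liftU σ :=
      hconjU _ _ hv' (by rw [hNσ, hv'σ]; exact D.V_le i (D.n_V i v hv))
    have hxL : x' ∈ D.liftL σ i :=
      D.mem_liftL hs hc hr hrp hcard hL (Or.inl (hx'σ ▸ hx)) ((hUiff x').1 hx').2
    have hwM := hMle hw
    have hNi : N i ∈ Nlift := subset_closure (Or.inl ⟨i, rfl⟩)
    rcases D.dich _ (hNσN w hw) i with hd | hd
    · refine ⟨_, hv2, N i * w, mul_mem hNi hw, (w⁻¹ * x' * w) * u', mul_mem ?_ hu', by group⟩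
      have := hconjU w⁻¹ x' hx' (by rw [map_inv, inv_inv, hx'σ]; exact hd x hx)
      rwa [inv_inv] at this
    · have hy : σ (N i * x' * (N i)⁻¹) = D.n i * x * (D.n i)⁻¹ := by rw [map_mul, map_mul, map_inv, hNσ, hx'σ]
      obtain ⟨x₁, hx₁, h, hhH, hd'⟩ := D.dec i _ (D.n_X i x hx)
      have hX₁ : x₁ ∈ D.L i := subset_closure (Or.inl hx₁)
      have hyL : D.n i * x * (D.n i)⁻¹ ∈ D.L i := subset_closure (Or.inr (D.n_X i x hx))
      have hhL : h ∈ D.L i := by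
        rcases hd' with e1 | ⟨x₂, hx₂, e1⟩
        · rw [show h = x₁⁻¹ * (D.n i * x * (D.n i)⁻¹) by rw [e1, inv_mul_cancel_left]]
          exact mul_mem (inv_mem hX₁) hyL
        · rw [show h = x₁⁻¹ * (D.n i * x * (D.n i)⁻¹) * x₂⁻¹ * (D.n i)⁻¹ by rw [e1]; group]
          exact mul_mem (mul_mem (mul_mem (inv_mem hX₁) hyL) (inv_mem (subset_closure (Or.inl hx₂))))
            (inv_mem (D.n_mem i))
      obtain ⟨X₁, hX₁L, hX₁σ⟩ := D.exists_liftL hs hc hr hrp hcard hL hX₁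
      obtain ⟨Hh, hHL, hHhσ⟩ := D.exists_liftL hs hc hr hrp hcard hL hhL
      have hHh : Hh ∈ D.liftH σ := D.liftH_mem hs hc hr hrp hcard hL hHL (hHhσ ▸ hhH)
      have hX₁U := hXU hX₁L (hX₁σ ▸ hx₁)
      have hyLl : N i * x' * (N i)⁻¹ ∈ D.liftL σ i := mul_mem (mul_mem (hN i) hxL) (inv_mem (hN i))
      rcases hd' with e1 | ⟨x₂, hx₂, e1⟩
      · have e2 : N i * x' * (N i)⁻¹ = X₁ * Hh :=
          D.liftL_inj hs hc hr hrp hcard hL hyLl (mul_mem hX₁L hHL) (by rw [hy, map_mul, hX₁σ, hHhσ, e1])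
        refine ⟨N i * v' * (N i)⁻¹ * X₁, mul_mem hv2 hX₁U, Hh * (N i * w),
          mul_mem (subset_closure (Or.inr hHh)) (mul_mem hNi hw), u', hu', ?_⟩
        calc N i * (v' * x' * w * u') = N i * v' * (N i)⁻¹ * (N i * x' * (N i)⁻¹) * (N i * w) * u' := by group
          _ = _ := by rw [e2]; group
      · obtain ⟨X₂, hX₂L, hX₂σ⟩ := D.exists_liftL hs hc hr hrp hcard hL
          (subset_closure (Or.inl hx₂) : x₂ ∈ D.L i)
        have hX₂U := hXU hX₂L (hX₂σ ▸ hx₂)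
        have e2 : N i * x' * (N i)⁻¹ = X₁ * Hh * N i * X₂ :=
          D.liftL_inj hs hc hr hrp hcard hL hyLl (mul_mem (mul_mem (mul_mem hX₁L hHL) (hN i)) hX₂L)
            (by rw [hy, map_mul, map_mul, map_mul, hX₁σ, hHhσ, hX₂σ, hNσ, e1])
        have hx2' : w⁻¹ * ((N i * N i)⁻¹ * (N i * X₂ * (N i)⁻¹) * (N i * N i)) * w ∈ D.liftU σ := by
          have hy2 : (D.n i * D.n i)⁻¹ * (D.n i * x₂ * (D.n i)⁻¹) * (D.n i * D.n i) ∈ D.Y i := by
            have := D.conj_Y i _ (inv_mem (D.n_sq i)) _ (D.n_X i x₂ hx₂)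
            rwa [inv_inv] at this
          refine (hUiff _).2 ⟨by simp only [map_mul, map_inv, hNσ, hX₂σ]; exact hd _ hy2, ?_⟩
          have hp2 := ((hUiff X₂).1 hX₂U).2
          have ecj : ∀ (g z : Γ), (g⁻¹ * z * g) ^ Nat.card ↥D.U = g⁻¹ * z ^ Nat.card ↥D.U * g := fun g z => by
            have := conj_pow (a := g⁻¹) (b := z) (i := Nat.card ↥D.U)
            rwa [inv_inv] at this
          rw [ecj, ecj, conj_pow, hp2, mul_one, mul_inv_cancel, mul_one, inv_mul_cancel, mul_one, inv_mul_cancel]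
        refine ⟨N i * v' * (N i)⁻¹ * X₁, mul_mem hv2 hX₁U, Hh * ((N i * N i) * w),
          mul_mem (subset_closure (Or.inr hHh)) (mul_mem (mul_mem hNi hNi) hw), _, mul_mem hx2' hu', ?_⟩
        calc N i * (v' * x' * w * u') = N i * v' * (N i)⁻¹ * (N i * x' * (N i)⁻¹) * (N i * w) * u' := by group
          _ = _ := by rw [e2]; group
  let X0 : Subgroup Γ := closure ((D.liftU σ : Set Γ) ∪ Set.range N)
  have hinvN : ∀ i, ∀ g ∈ R, (N i)⁻¹ * g ∈ R := by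
    intro i g hg
    obtain ⟨u, hu, w, hw, u', hu', e⟩ := hmulN i g hg
    have hh := inv_mem (hsq i)
    refine ⟨(N i * N i)⁻¹ * u * (N i * N i)⁻¹⁻¹, hHU _ hh u hu, (N i * N i)⁻¹ * w,
      mul_mem (subset_closure (Or.inr hh)) hw, u', hu', ?_⟩
    rw [show (N i)⁻¹ * g = (N i * N i)⁻¹ * (N i * g) by group, e]
    group
  have hX0 : ∀ g ∈ X0, ∀ g' ∈ R, g * g' ∈ R := by
    intro g hg
    induction hg using closure_induction_left with
    | one => exact fun g' hg' => by rwa [one_mul]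
    | mul_left x hx y _ ih =>
      intro g' hg'
      rw [mul_assoc]
      rcases hx with hx | ⟨i, rfl⟩
      · obtain ⟨u, hu, w, hw, u', hu', e⟩ := ih g' hg'
        exact ⟨x * u, mul_mem hx hu, w, hw, u', hu', by rw [e]; group⟩
      · exact hmulN i _ (ih g' hg')
    | inv_mul_cancel x hx y _ ih =>
      intro g' hg'
      rw [mul_assoc]
      rcases hx with hx | ⟨i, rfl⟩
      · obtain ⟨u, hu, w, hw, u', hu', e⟩ := ih g' hg'
        exact ⟨x⁻¹ * u, mul_mem (inv_mem hx) hu, w, hw, u', hu', by rw [e]; group⟩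
      · exact hinvN i _ (ih g' hg')
  have hX0meet : ∀ g ∈ X0, σ g = 1 → g = 1 := by
    intro g hg h1
    obtain ⟨u, hu, w, hw, u', hu', e⟩ := hX0 g hg 1 ⟨1, one_mem _, 1, one_mem _, 1, one_mem _, by group⟩
    rw [mul_one] at e
    subst e
    have hσw : σ w ∈ D.U := by
      rw [map_mul, map_mul] at h1
      rw [show σ w = (σ u)⁻¹ * (σ u * σ w * σ u') * (σ u')⁻¹ by group, h1, mul_one]
      exact mul_mem (inv_mem ((hUiff u).1 hu).1) (inv_mem ((hUiff u').1 hu').1)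
    have hw1 : σ w = 1 := D.N_meet _ (hNσN w hw) hσw
    have hwH := hNmeet w hw (by rw [hw1]; exact one_mem _)
    have hw0 : w = 1 := Subgroup.mem_bot.1
      (D.liftH_meet hs hc hr hrp hcard hL ▸ (⟨hwH, hw1⟩ : w ∈ D.liftH σ ⊓ σ.ker))
    subst hw0
    rw [mul_one] at h1 ⊢
    exact Subgroup.mem_bot.1 (hU0 ▸ (⟨mul_mem hu hu', h1⟩ : u * u' ∈ D.liftU σ ⊓ σ.ker))
  have htop : X0.map σ = ⊤ := by
    rw [eq_top_iff, ← D.gen, closure_le]
    rintro g (hg | ⟨i, rfl⟩)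
    · obtain ⟨x, hx, e⟩ := hexU le_rfl g hg
      exact ⟨x, subset_closure (Or.inl hx), e⟩
    · exact ⟨N i, subset_closure (Or.inr ⟨i, rfl⟩), hNσ i⟩
  intro hle
  have hcomm : commutator Γ ≤ X0 := by
    rw [_root_.commutator_def, Subgroup.commutator_le]
    intro a _ b _
    have hfac : ∀ a : Γ, ∃ z ∈ σ.ker, ∃ x ∈ X0, a = z * x := fun a => by
      obtain ⟨x, hx, e⟩ := (show σ a ∈ X0.map σ by rw [htop]; trivial)
      exact ⟨a * x⁻¹, by rw [MonoidHom.mem_ker, map_mul, map_inv, e, mul_inv_cancel], x, hx, (inv_mul_cancel_right a x).symm⟩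
    obtain ⟨z, hz, x, hx, rfl⟩ := hfac a
    obtain ⟨z', hz', x', hx', rfl⟩ := hfac b
    rw [Cfsg.Lib.Schur.commutatorElement_mul_central (hc hz) (hc hz')]
    exact mul_mem (mul_mem (mul_mem hx hx') (inv_mem hx)) (inv_mem hx')
  have hk1 : σ.ker = ⊥ := eq_bot_iff.2 fun z hz => Subgroup.mem_bot.2 (hX0meet z (hcomm (hle hz)) hz)
  rw [hk1, Subgroup.card_bot] at hcard
  exact hr.ne_one hcard.symm

end RankTwo

end Cfsg.Lib.Chev.TwMult
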