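import Cfsg.Agent.Lib.Chev.TwMult.PrimeQuot
import Mathlib.GroupTheory.Coxeter.Basic

/-!
The cross-characteristic part of the multiplier in any rank: the kernel of a stem extension is covered by the
lifts of the rank one tori.
-/

set_option autoImplicit false
set_option linter.unusedSectionVars false

namespace Cfsg.Lib.Chev.TwMult

open Subgroup MultW
open scoped commutatorElement Pointwise

universe u

/-- The data of a group with a Weyl group of type `M`. -/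
structure RankN (p : ℕ) (G : Type u) [Group G] {ι : Type} (M : CoxeterMatrix ι) where
  U : Subgroup G
  H : Subgroup G
  X : ι → Subgroup G
  Y : ι → Subgroup G
  V : ι → Subgroup G
  n : ι → G
  pgroup : IsPGroup p ↥U
  conj_U : ∀ h ∈ H, ∀ u ∈ U, h * u * h⁻¹ ∈ U
  conj_X : ∀ i, ∀ h ∈ H, ∀ x ∈ X i, h * x * h⁻¹ ∈ X i
  conj_Y : ∀ i, ∀ h ∈ H, ∀ x ∈ Y i, h * x * h⁻¹ ∈ Y i
  X_le : ∀ i, X i ≤ U
  V_le : ∀ i, V i ≤ U
  n_X : ∀ i, ∀ x ∈ X i, n i * x * (n i)⁻¹ ∈ Y i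
  n_Y : ∀ i, ∀ y ∈ Y i, n i * y * (n i)⁻¹ ∈ X i
  n_V : ∀ i, ∀ v ∈ V i, n i * v * (n i)⁻¹ ∈ V i
  n_H : ∀ i, ∀ h ∈ H, n i * h * (n i)⁻¹ ∈ H
  n_sq : ∀ i, n i * n i ∈ H
  n_mem : ∀ i, n i ∈ closure ((X i : Set G) ∪ Y i)
  split_U : ∀ i, ∀ u ∈ U, ∃ v ∈ V i, ∃ x ∈ X i, u = v * x
  dec : ∀ i, ∀ y ∈ Y i, ∃ x₁ ∈ X i, ∃ h ∈ H, (y = x₁ * h) ∨ ∃ x₂ ∈ X i, y = x₁ * h * n i * x₂
  dich : ∀ g ∈ closure (Set.range n ∪ (H : Set G)), ∀ i,
    (∀ x ∈ X i, g⁻¹ * x * g ∈ U) ∨ ∀ y ∈ Y i, g⁻¹ * y * g ∈ U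
  H_comm : ∀ a ∈ H, ∀ b ∈ H, a * b = b * a
  N_meet : ∀ g ∈ closure (Set.range n ∪ (H : Set G)), g ∈ U → g = 1
  rel : ∀ i j, i ≠ j → ∃ (w : List ι) (a b : ι),
    (∀ x ∈ (X a : Set G) ∪ Y a, (w.map n).prod * x * ((w.map n).prod)⁻¹ ∈ (X b : Set G) ∪ Y b) ∧
    (w.map n).prod * n a * ((w.map n).prod)⁻¹ * (n b)⁻¹ ∈ H ∧
    ∀ {Q : Type u} [Group Q] (x : ι → Q), (∀ k, x k * x k = 1) →
      (w.map x).prod * x a * ((w.map x).prod)⁻¹ = x b → (x i * x j) ^ M i j = 1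
  toW : ↥(closure (Set.range n ∪ (H : Set G))) →* M.Group
  toW_n : ∀ i, toW ⟨n i, subset_closure (Or.inl ⟨i, rfl⟩)⟩ = M.simple i
  toW_H : ∀ h, ∀ hh : h ∈ H, toW ⟨h, subset_closure (Or.inr hh)⟩ = 1
  gen : closure ((U : Set G) ∪ Set.range n) = ⊤

namespace RankN

variable {p : ℕ} {G Γ : Type u} [Group G] [Group Γ] {ι : Type} {M : CoxeterMatrix ι} (D : RankN p G M)
  (σ : Γ →* G)

/-- A rank one subgroup. -/
def L (i : ι) : Subgroup G := closure ((D.X i : Set G) ∪ D.Y i)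

/-- The part of the preimage of a subgroup killed by the order of `U`. -/
def pElts (S : Subgroup G) : Set Γ := {x | σ x ∈ S ∧ x ^ Nat.card ↥D.U = 1}

/-- The lift of `U`. -/
def liftU : Subgroup Γ := closure (D.pElts σ D.U)

/-- The lift of a rank one subgroup. -/
def liftL (i : ι) : Subgroup Γ := closure (D.pElts σ (D.X i) ∪ D.pElts σ (D.Y i))

/-- The lift of the torus. -/
def liftH : Subgroup Γ := closure {x | ∃ i, x ∈ D.liftL σ i ∧ σ x ∈ D.H}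

variable [Finite G] [Finite Γ] {σ} (hs : Function.Surjective σ) (hc : σ.ker ≤ center Γ) [hp : Fact p.Prime]
  (hcop : (Nat.card σ.ker).Coprime p)
include hs hc hcop

theorem cop_U : (Nat.card σ.ker).Coprime (Nat.card ↥D.U) := by
  obtain ⟨k, hk⟩ := IsPGroup.iff_card.1 D.pgroup
  rw [hk]; exact hcop.pow_right k

omit hs hc hcop in
theorem ker_pow_card {z : Γ} (hz : z ∈ σ.ker) : z ^ Nat.card σ.ker = 1 :=
  congrArg Subtype.val (show (⟨z, hz⟩ : σ.ker) ^ Nat.card σ.ker = 1 from pow_card_eq_one')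

theorem ker_pow {z : Γ} (hz : z ∈ σ.ker) (h : z ^ Nat.card ↥D.U = 1) : z = 1 := by
  have := pow_gcd_eq_one.2 ⟨ker_pow_card hz, h⟩
  rwa [(D.cop_U hs hc hcop).gcd_eq_one, pow_one] at this

/-- An element of a `p`-subgroup has a lift killed by the order of `U`. -/
theorem exists_pLift {g : G} (hg : g ^ Nat.card ↥D.U = 1) : ∃ x : Γ, σ x = g ∧ x ^ Nat.card ↥D.U = 1 := by
  obtain ⟨A, hA⟩ := hs g
  have hz : A ^ Nat.card ↥D.U ∈ σ.ker := by rw [MonoidHom.mem_ker, map_pow, hA, hg]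
  obtain ⟨w, hw⟩ := (powCoprime (D.cop_U hs hc hcop)).surjective ⟨_, hz⟩
  have hw' : (w : Γ) ^ Nat.card ↥D.U = A ^ Nat.card ↥D.U := congrArg Subtype.val hw
  refine ⟨A * (w : Γ)⁻¹, by rw [map_mul, map_inv, MonoidHom.mem_ker.1 w.2, inv_one, mul_one, hA], ?_⟩
  rw [Commute.mul_pow (show Commute A (w : Γ)⁻¹ from mem_center_comm hc (inv_mem w.2) A), inv_pow, hw',
    mul_inv_cancel]

omit hs hc hcop [Finite Γ] in
theorem pow_eq_one {S : Subgroup G} (hS : S ≤ D.U) {g : G} (hg : g ∈ S) : g ^ Nat.card ↥D.U = 1 :=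
  congrArg Subtype.val (show (⟨g, hS hg⟩ : ↥D.U) ^ Nat.card ↥D.U = 1 from pow_card_eq_one')

omit hs hc hcop [Finite Γ] in
theorem pow_eq_one_Y {i : ι} {g : G} (hg : g ∈ D.Y i) : g ^ Nat.card ↥D.U = 1 := by
  have h := D.pow_eq_one (D.X_le i) (D.n_Y i g hg)
  rwa [conj_pow, conj_eq_one_iff] at h

/-- `U` lifts. -/
theorem liftU_spec : D.liftU σ ⊓ σ.ker = ⊥ ∧ ∀ x, x ∈ D.liftU σ ↔ σ x ∈ D.U ∧ x ^ Nat.card ↥D.U = 1 := by
  obtain ⟨k, hk⟩ := IsPGroup.iff_card.1 D.pgroup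
  let E : Subgroup Γ := D.U.comap σ
  have hmeet : ⁅E, E⁆ ⊓ σ.ker = ⊥ := by
    let P : Sylow p ↥E := default
    refine eq_bot_iff.2 fun x hx => ?_
    let ψ : ↥E →* ↥D.U := (σ.comp E.subtype).codRestrict D.U fun y => y.2
    have hψ : Function.Surjective ψ := fun u => by
      obtain ⟨y, hy⟩ := hs u
      exact ⟨⟨y, show σ y ∈ D.U by rw [hy]; exact u.2⟩, Subtype.ext hy⟩
    have hPtop : ((P : Subgroup ↥E).map ψ) = ⊤ := by
      have := (P.mapSurjective hψ).3 (Q := ⊤) ((IsPGroup.iff_card.2 ⟨k, hk⟩).to_subgroup ⊤) le_top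
      rw [← Sylow.coe_mapSurjective hψ]
      exact this.symm
    have hfac : ∀ a : ↥E, ∃ z ∈ σ.ker, ∃ w ∈ (P : Subgroup ↥E), (a : Γ) = z * w := fun a => by
      obtain ⟨w, hw, e⟩ := (show ψ a ∈ (P : Subgroup ↥E).map ψ by rw [hPtop]; trivial)
      refine ⟨(a : Γ) * (w : Γ)⁻¹, ?_, w, hw, (inv_mul_cancel_right _ _).symm⟩
      rw [MonoidHom.mem_ker, map_mul, map_inv, show σ (w : Γ) = σ (a : Γ) from congrArg Subtype.val e, mul_inv_cancel]
    have hle : ⁅E, E⁆ ≤ (P : Subgroup ↥E).map E.subtype := by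
      rw [Subgroup.commutator_le]
      intro a ha b hb
      obtain ⟨z, hz, w, hw, e⟩ := hfac ⟨a, ha⟩
      obtain ⟨z', hz', w', hw', e'⟩ := hfac ⟨b, hb⟩
      simp only at e e'
      rw [e, e', Cfsg.Lib.Schur.commutatorElement_mul_central (hc hz) (hc hz')]
      exact ⟨⁅w, w'⁆, mul_mem (mul_mem (mul_mem hw hw') (inv_mem hw)) (inv_mem hw'), map_commutatorElement _ _ _⟩
    obtain ⟨y, hy, rfl⟩ := hle hx.1
    obtain ⟨j, hj⟩ := P.isPGroup'.exists_card_eq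
    have hyP : y ^ p ^ j = 1 := congrArg Subtype.val (show (⟨y, hy⟩ : ↥(P : Subgroup ↥E)) ^ p ^ j = 1 from hj ▸ pow_card_eq_one')
    have h2 : (y : Γ) ^ p ^ j = 1 := by simpa using congrArg Subtype.val hyP
    have h3 := pow_gcd_eq_one.2 ⟨ker_pow_card hx.2, h2⟩
    rw [(hcop.pow_right j).gcd_eq_one, pow_one] at h3
    exact Subgroup.mem_bot.2 h3
  let S : Subgroup Γ :=
    { carrier := {x | σ x ∈ D.U ∧ x ^ Nat.card ↥D.U = 1}
      one_mem' := ⟨by rw [map_one]; exact one_mem _, one_pow _⟩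
      mul_mem' := by
        rintro a b ⟨ha, ha'⟩ ⟨hb, hb'⟩
        have hab : σ (a * b) ∈ D.U := by rw [map_mul]; exact mul_mem ha hb
        refine ⟨hab, ?_⟩
        have hz : (a * b) ^ Nat.card ↥D.U ∈ σ.ker := by
          rw [MonoidHom.mem_ker, map_pow]; exact D.pow_eq_one le_rfl hab
        have hco : (a * b) ^ Nat.card ↥D.U ∈ ⁅E, E⁆ := by
          let φ : ↥E →* Abelianization ↥E := Abelianization.of
          have : φ ((⟨a, ha⟩ * ⟨b, hb⟩ : ↥E) ^ Nat.card ↥D.U) = 1 := by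
            rw [map_pow, map_mul, mul_pow, ← map_pow, ← map_pow,
              show (⟨a, ha⟩ : ↥E) ^ Nat.card ↥D.U = 1 from Subtype.ext ha',
              show (⟨b, hb⟩ : ↥E) ^ Nat.card ↥D.U = 1 from Subtype.ext hb', map_one, one_mul]
          have h4 : ((commutator ↥E).map E.subtype) = ⁅E, E⁆ := by
            rw [_root_.commutator_def, Subgroup.map_commutator, ← MonoidHom.range_eq_map, range_subtype]
          exact h4 ▸ mem_map_of_mem E.subtype ((QuotientGroup.eq_one_iff _).1 this)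
        exact Subgroup.mem_bot.1 (hmeet ▸ (⟨hco, hz⟩ : _ ∈ ⁅E, E⁆ ⊓ σ.ker))
      inv_mem' := fun {a} ⟨ha, ha'⟩ => ⟨by rw [map_inv]; exact inv_mem ha, by rw [inv_pow, ha', inv_one]⟩ }
  have hS : D.liftU σ = S := closure_eq S
  rw [hS]
  exact ⟨eq_bot_iff.2 fun x ⟨hx, hxk⟩ => D.ker_pow hs hc hcop hxk hx.2, fun x => Iff.rfl⟩

theorem mem_liftL {i : ι} {x : Γ} (hσx : σ x ∈ D.X i ∨ σ x ∈ D.Y i) (hx : x ^ Nat.card ↥D.U = 1) :
    x ∈ D.liftL σ i :=
  subset_closure (hσx.elim (fun h => Or.inl ⟨h, hx⟩) fun h => Or.inr ⟨h, hx⟩)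

theorem map_liftL (i : ι) : (D.liftL σ i).map σ = D.L i := by
  refine le_antisymm ?_ ((closure_le _).2 ?_)
  · rw [liftL, MonoidHom.map_closure]
    refine closure_mono ?_
    rintro _ ⟨x, ⟨h, -⟩ | ⟨h, -⟩, rfl⟩
    exacts [Or.inl h, Or.inr h]
  · rintro g (hg | hg)
    · obtain ⟨x, rfl, hx⟩ := D.exists_pLift hs hc hcop (D.pow_eq_one (D.X_le i) hg)
      exact ⟨x, D.mem_liftL hs hc hcop (Or.inl hg) hx, rfl⟩
    · obtain ⟨x, rfl, hx⟩ := D.exists_pLift hs hc hcop (D.pow_eq_one_Y hg)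
      exact ⟨x, D.mem_liftL hs hc hcop (Or.inr hg) hx, rfl⟩

/-- A rank one subgroup without stem extensions of prime kernels off `p` lifts. -/
theorem liftL_meet {i : ι} {S : Type u} [Group S] (e : ↥(D.L i) ≃* S)
    (hS : ∀ r, r.Prime → r ≠ p → NoStemPrime r S) : D.liftL σ i ⊓ σ.ker = ⊥ := by
  let E := D.liftL σ i
  have hEσ : ∀ y : ↥E, σ y ∈ D.L i := fun y => by
    rw [← D.map_liftL hs hc hcop i]; exact mem_map_of_mem σ y.2
  let τ : ↥E →* S := e.toMonoidHom.comp ((σ.comp E.subtype).codRestrict (D.L i) hEσ)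
  have hτs : Function.Surjective τ := e.surjective.comp fun g => by
    obtain ⟨y, hy, e'⟩ := (show (g : G) ∈ E.map σ by rw [D.map_liftL hs hc hcop i]; exact g.2)
    exact ⟨⟨y, hy⟩, Subtype.ext e'⟩
  have hτk : τ.ker = σ.ker.subgroupOf E := by
    ext y
    show e _ = 1 ↔ _
    rw [MulEquiv.map_eq_one_iff]
    exact Subtype.ext_iff
  have hτc : τ.ker ≤ center ↥E := fun y hy => mem_center_iff.2 fun g => Subtype.ext
    (mem_center_iff.1 (hc (by rw [hτk] at hy; exact hy)) g)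
  have hτle : τ.ker ≤ commutator ↥E := by
    intro y hy
    rw [hτk, Subgroup.mem_subgroupOf] at hy
    let φ : ↥E →* Abelianization ↥E := Abelianization.of
    let P : Subgroup ↥E := ((powMonoidHom (Nat.card ↥D.U) : Abelianization ↥E →* Abelianization ↥E).comp φ).ker
    have hgen : E ≤ P.map E.subtype := by
      refine (closure_le _).2 ?_
      rintro x (hx | hx) <;>
      · refine ⟨⟨x, subset_closure (by first | exact Or.inl hx | exact Or.inr hx)⟩, ?_, rfl⟩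
        show φ _ ^ _ = 1
        rw [← map_pow]
        exact (congrArg φ (Subtype.ext hx.2)).trans φ.map_one
    obtain ⟨y', hy', e'⟩ := hgen y.2
    obtain rfl : y' = y := Subtype.ext e'
    have h2 : φ y' ^ Nat.card σ.ker = 1 := by
      rw [← map_pow, show y' ^ Nat.card σ.ker = 1 from Subtype.ext (by simpa using ker_pow_card hy), map_one]
    have h1 : φ y' ^ Nat.card ↥D.U = 1 := hy'
    have h3 := pow_gcd_eq_one.2 ⟨h2, h1⟩
    rw [(D.cop_U hs hc hcop).gcd_eq_one, pow_one] at h3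
    exact (QuotientGroup.eq_one_iff y').1 h3
  by_contra hne
  have hne1 : Nat.card τ.ker ≠ 1 := by
    intro h1
    refine hne (eq_bot_iff.2 fun x ⟨hx, hxk⟩ => ?_)
    have hxτ : (⟨x, hx⟩ : ↥E) ∈ τ.ker := by rw [hτk, Subgroup.mem_subgroupOf]; exact hxk
    rw [eq_bot_of_card_eq _ h1, Subgroup.mem_bot] at hxτ
    exact Subgroup.mem_bot.2 (congrArg Subtype.val hxτ)
  obtain ⟨r, hr, hrd⟩ := Nat.exists_prime_and_dvd hne1
  obtain ⟨Γ', i1, i2, σ', h1, h2, h3, h4⟩ := exists_prime_quot hτs hτc hτle hr hrd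
  refine hS r hr (fun e' => ?_) Γ' σ' h1 h2 h3 h4
  subst e'
  have hdd : r ∣ Nat.card σ.ker := hrd.trans (by
    rw [hτk]
    have : σ.ker.subgroupOf E = (σ.ker ⊓ E).subgroupOf E := (inf_subgroupOf_right _ _).symm
    rw [this, Nat.card_congr (Subgroup.subgroupOfEquivOfLe inf_le_right).toEquiv]
    exact card_dvd_of_le inf_le_left)
  exact hr.not_dvd_one (hcop ▸ Nat.dvd_gcd hdd dvd_rfl)

variable (hL : ∀ i, D.liftL σ i ⊓ σ.ker = ⊥)
include hL

theorem exists_liftL {i : ι} {g : G} (hg : g ∈ D.L i) : ∃ x ∈ D.liftL σ i, σ x = g := by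
  rwa [← D.map_liftL hs hc hcop i] at hg

theorem liftL_inj {i : ι} {x y : Γ} (hx : x ∈ D.liftL σ i) (hy : y ∈ D.liftL σ i) (e : σ x = σ y) : x = y := by
  have h : x⁻¹ * y ∈ D.liftL σ i ⊓ σ.ker :=
    Subgroup.mem_inf.2 ⟨mul_mem (inv_mem hx) hy, by rw [MonoidHom.mem_ker, map_mul, map_inv, e, inv_mul_cancel]⟩
  rwa [hL i, Subgroup.mem_bot, inv_mul_eq_one] at h

theorem conj_liftL {i j : ι} {g : Γ}
    (h : ∀ x ∈ (D.X i : Set G) ∪ D.Y i, σ g * x * (σ g)⁻¹ ∈ (D.X j : Set G) ∪ D.Y j) {x : Γ}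
    (hx : x ∈ D.liftL σ i) : g * x * g⁻¹ ∈ D.liftL σ j := by
  have hle : D.liftL σ i ≤ (D.liftL σ j).comap (MulAut.conj g).toMonoidHom := by
    refine (closure_le _).2 ?_
    rintro x hx
    refine D.mem_liftL hs hc hcop ?_ ?_
    · show σ (g * x * g⁻¹) ∈ D.X j ∨ σ (g * x * g⁻¹) ∈ D.Y j
      rw [map_mul, map_mul, map_inv]
      exact h _ (hx.imp (fun h => h.1) fun h => h.1)
    · show (g * x * g⁻¹) ^ _ = 1
      rw [conj_pow, (hx.elim (fun h => h.2) fun h => h.2 : x ^ Nat.card ↥D.U = 1), mul_one, mul_inv_cancel]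
  exact hle hx

theorem conjH_liftL {i : ι} {g : Γ} (hg : σ g ∈ D.H) {x : Γ} (hx : x ∈ D.liftL σ i) :
    g * x * g⁻¹ ∈ D.liftL σ i :=
  D.conj_liftL hs hc hcop hL (fun y hy => hy.imp (D.conj_X i _ hg y) (D.conj_Y i _ hg y)) hx

theorem map_liftH : (D.liftH σ).map σ ≤ D.H := by
  rw [map_le_iff_le_comap, liftH, closure_le]
  rintro x ⟨i, -, h⟩
  exact h

theorem liftH_mem {i : ι} {x : Γ} (hx : x ∈ D.liftL σ i) (hσx : σ x ∈ D.H) : x ∈ D.liftH σ :=
  subset_closure ⟨i, hx, hσx⟩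

theorem tori_comm {i j : ι} {a b : Γ} (ha : a ∈ D.liftL σ i) (haH : σ a ∈ D.H) (_hb : b ∈ D.liftL σ j)
    (hbH : σ b ∈ D.H) : Commute a b := by
  have h1 : b * a * b⁻¹ = a := D.liftL_inj hs hc hcop hL
    (D.conjH_liftL hs hc hcop hL hbH ha) ha (by
      rw [map_mul, map_mul, map_inv, D.H_comm _ hbH _ haH, mul_inv_cancel_right])
  exact (mul_inv_eq_iff_eq_mul.1 h1).symm

/-- The kernel meets the derived group inside the lifted torus. -/
theorem ker_le_liftH : σ.ker ⊓ commutator Γ ≤ D.liftH σ := by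
  obtain ⟨hU0, hUiff⟩ := D.liftU_spec hs hc hcop
  choose N hN hNσ using fun i => D.exists_liftL hs hc hcop hL (D.n_mem i : D.n i ∈ D.L i)
  have hexU : ∀ {S : Subgroup G}, S ≤ D.U → ∀ g ∈ S, ∃ x ∈ D.liftU σ, σ x = g := by
    intro S hS g hg
    obtain ⟨x, hxg, hx⟩ := D.exists_pLift hs hc hcop (D.pow_eq_one hS hg)
    exact ⟨x, (hUiff x).2 ⟨hxg ▸ hS hg, hx⟩, hxg⟩
  have hconjU : ∀ (g u : Γ), u ∈ D.liftU σ → σ g * σ u * (σ g)⁻¹ ∈ D.U → g * u * g⁻¹ ∈ D.liftU σ := by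
    intro g u hu h
    refine (hUiff _).2 ⟨by rw [map_mul, map_mul, map_inv]; exact h, ?_⟩
    rw [conj_pow, ((hUiff u).1 hu).2, mul_one, mul_inv_cancel]
  have hXU : ∀ {i : ι} {x : Γ}, x ∈ D.liftL σ i → σ x ∈ D.X i → x ∈ D.liftU σ := by
    intro i x hx hσx
    obtain ⟨y, hy, e⟩ := hexU (D.X_le i) _ hσx
    have hyL := D.mem_liftL hs hc hcop (i := i) (Or.inl (e ▸ hσx)) ((hUiff y).1 hy).2
    rwa [D.liftL_inj hs hc hcop hL hx hyL e.symm]
  have hHσ : ∀ {h : Γ}, h ∈ D.liftH σ → σ h ∈ D.H := fun {h} hh =>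
    D.map_liftH hs hc hcop hL (mem_map_of_mem σ hh)
  have hsq : ∀ i, N i * N i ∈ D.liftH σ := fun i =>
    D.liftH_mem hs hc hcop hL (mul_mem (hN i) (hN i)) (by rw [map_mul, hNσ]; exact D.n_sq i)
  have hNH : ∀ i, ∀ h ∈ D.liftH σ, N i * h * (N i)⁻¹ ∈ D.liftH σ := by
    intro i h hh
    have hle : D.liftH σ ≤ (D.liftH σ).comap (MulAut.conj (N i)).toMonoidHom := by
      refine (closure_le _).2 ?_
      rintro x ⟨j, hx, hxH⟩
      show N i * x * (N i)⁻¹ ∈ D.liftH σ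
      rw [show N i * x * (N i)⁻¹ = (N i * (x * (N i)⁻¹ * x⁻¹)) * x by group]
      refine mul_mem (D.liftH_mem hs hc hcop hL (i := i)
        (mul_mem (hN i) (D.conjH_liftL hs hc hcop hL hxH (inv_mem (hN i)))) ?_)
        (D.liftH_mem hs hc hcop hL hx hxH)
      rw [map_mul, map_mul, map_mul, map_inv, map_inv, hNσ, ← mul_assoc, ← mul_assoc]
      exact mul_mem (D.n_H i _ hxH) (inv_mem hxH)
    exact hle hh
  have hinvH : ∀ i, ∀ h ∈ D.liftH σ, (N i)⁻¹ * h * N i ∈ D.liftH σ := by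
    intro i h hh
    have := hNH i _ (mul_mem (mul_mem (inv_mem (hsq i)) hh) (hsq i))
    convert this using 1
    group
  -- the Weyl group modulo the lifted torus
  let Nm : Subgroup Γ :=
    { carrier := {x | (∀ h ∈ D.liftH σ, x * h * x⁻¹ ∈ D.liftH σ) ∧ ∀ h ∈ D.liftH σ, x⁻¹ * h * x ∈ D.liftH σ}
      one_mem' := by simp
      mul_mem' := by
        rintro a b ⟨ha, ha'⟩ ⟨hb, hb'⟩
        refine ⟨fun h hh => ?_, fun h hh => ?_⟩
        · rw [show a * b * h * (a * b)⁻¹ = a * (b * h * b⁻¹) * a⁻¹ by group]; exact ha _ (hb h hh)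
        · rw [show (a * b)⁻¹ * h * (a * b) = b⁻¹ * (a⁻¹ * h * a) * b by group]; exact hb' _ (ha' h hh)
      inv_mem' := by
        rintro a ⟨ha, ha'⟩
        exact ⟨fun h hh => by rw [inv_inv]; exact ha' h hh, fun h hh => by rw [inv_inv]; exact ha h hh⟩ }
  have hMN : ∀ i, N i ∈ Nm := fun i => ⟨hNH i, hinvH i⟩
  let Nlift : Subgroup Γ := closure (Set.range N ∪ (D.liftH σ : Set Γ))
  have hMle : Nlift ≤ Nm := by
    refine (closure_le _).2 ?_
    rintro x (⟨i, rfl⟩ | hx)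
    · exact hMN i
    · exact ⟨fun h hh => mul_mem (mul_mem hx hh) (inv_mem hx), fun h hh => mul_mem (mul_mem (inv_mem hx) hh) hx⟩
  haveI : ((D.liftH σ).subgroupOf Nm).Normal := ⟨fun h hh g => g.2.1 _ hh⟩
  let π := QuotientGroup.mk' ((D.liftH σ).subgroupOf Nm)
  have hq : ∀ (x : Nm), (x : Γ) ∈ D.liftH σ → π x = 1 := fun x hx => (QuotientGroup.eq_one_iff x).2 hx
  have hqi : ∀ (x : Nm), π x = 1 → (x : Γ) ∈ D.liftH σ := fun x hx => (QuotientGroup.eq_one_iff x).1 hx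
  let nm : ι → Nm := fun i => ⟨N i, hMN i⟩
  let a : ι → ↥Nm ⧸ (D.liftH σ).subgroupOf Nm := fun i => π (nm i)
  have ha2 : ∀ i, a i * a i = 1 := fun i => by
    show π _ * π _ = 1
    rw [← map_mul]; exact hq _ (hsq i)
  have hlift : M.IsLiftable a := by
    intro i j
    by_cases hij : i = j
    · subst hij; rw [M.diagonal, pow_one]; exact ha2 i
    obtain ⟨w, c, b, hconj, hH, hrel⟩ := D.rel i j hij
    refine hrel a ha2 ?_
    let g : Nm := (w.map nm).prod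
    have hπg : π g = (w.map a).prod := by
      rw [map_list_prod, List.map_map]; rfl
    have hσg : σ (g : Γ) = (w.map D.n).prod := by
      show σ (Nm.subtype (w.map nm).prod) = _
      rw [map_list_prod, map_list_prod, List.map_map, List.map_map]
      exact congrArg List.prod (List.map_congr_left fun k _ => hNσ k)
    have h1 : (g : Γ) * N c * (g : Γ)⁻¹ ∈ D.liftL σ b :=
      D.conj_liftL hs hc hcop hL (by rw [hσg]; exact hconj) (hN c)
    have h2 : (g : Γ) * N c * (g : Γ)⁻¹ * (N b)⁻¹ ∈ D.liftH σ :=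
      D.liftH_mem hs hc hcop hL (mul_mem h1 (inv_mem (hN b))) (by
        simp only [map_mul, map_inv, hσg, hNσ]; exact hH)
    have h3 := hq (g * nm c * g⁻¹ * (nm b)⁻¹) h2
    rw [map_mul, map_mul, map_mul, map_inv, map_inv, hπg] at h3
    exact mul_inv_eq_one.1 h3
  let ψ : M.Group →* ↥Nm ⧸ (D.liftH σ).subgroupOf Nm := M.toCoxeterSystem.lift ⟨a, hlift⟩
  have hψ : ∀ i, ψ (M.simple i) = a i := fun i => by
    rw [← M.toCoxeterSystem_simple]; exact M.toCoxeterSystem.lift_apply_simple hlift i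
  let N' : Subgroup G := closure (Set.range D.n ∪ (D.H : Set G))
  have hNσN : Nlift ≤ N'.comap σ := by
    refine (closure_le _).2 ?_
    rintro y (⟨i, rfl⟩ | hy)
    · exact subset_closure (Or.inl ⟨i, (hNσ i).symm⟩)
    · exact subset_closure (Or.inr (hHσ hy))
  have hNmeet : ∀ x ∈ Nlift, σ x ∈ D.H → x ∈ D.liftH σ := by
    intro x hx hxH
    let χ : ↥Nlift →* M.Group := D.toW.comp ((σ.comp Nlift.subtype).codRestrict N' fun y => hNσN y.2)
    have heq : ∀ y, ∀ hy : y ∈ Nlift, π ⟨y, hMle hy⟩ = ψ (χ ⟨y, hy⟩) := by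
      intro y hy
      induction hy using closure_induction with
      | mem y hy =>
        rcases hy with ⟨i, rfl⟩ | hy
        · have e : χ ⟨N i, subset_closure (Or.inl ⟨i, rfl⟩)⟩ = M.simple i := by
            rw [← D.toW_n i]
            exact congrArg D.toW (Subtype.ext (hNσ i))
          rw [e, hψ]
        · have e : χ ⟨y, subset_closure (Or.inr hy)⟩ = 1 := by
            rw [← D.toW_H _ (hHσ hy)]
            exact congrArg D.toW (Subtype.ext rfl)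
          rw [e, map_one]
          exact hq _ hy
      | one =>
        rw [show (⟨1, one_mem _⟩ : ↥Nlift) = 1 from rfl, map_one, map_one]
        exact hq _ (one_mem _)
      | mul y z hy hz ihy ihz =>
        rw [show (⟨y * z, mul_mem hy hz⟩ : ↥Nlift) = ⟨y, hy⟩ * ⟨z, hz⟩ from rfl, map_mul, map_mul, ← ihy, ← ihz,
          ← map_mul]
        rfl
      | inv y hy ihy =>
        rw [show (⟨y⁻¹, inv_mem hy⟩ : ↥Nlift) = ⟨y, hy⟩⁻¹ from rfl, map_inv, map_inv, ← ihy, ← map_inv]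
        rfl
    refine hqi ⟨x, hMle hx⟩ ?_
    rw [heq x hx, show χ ⟨x, hx⟩ = 1 from (congrArg D.toW (Subtype.ext rfl)).trans (D.toW_H _ hxH), map_one]
  -- the union of the cells
  let R : Set Γ := {g | ∃ u ∈ D.liftU σ, ∃ w ∈ Nlift, ∃ u' ∈ D.liftU σ, g = u * w * u'}
  have hHU : ∀ h ∈ D.liftH σ, ∀ u ∈ D.liftU σ, h * u * h⁻¹ ∈ D.liftU σ := fun h hh u hu =>
    hconjU h u hu (D.conj_U _ (hHσ hh) _ ((hUiff u).1 hu).1)
  have hmulN : ∀ i, ∀ g ∈ R, N i * g ∈ R := by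
    rintro i g ⟨u, hu, w, hw, u', hu', rfl⟩
    obtain ⟨v, hv, x, hx, e⟩ := D.split_U i _ ((hUiff u).1 hu).1
    obtain ⟨v', hv', hv'σ⟩ := hexU (D.V_le i) v hv
    obtain ⟨x', hx', hx'σ⟩ := hexU (D.X_le i) x hx
    have hux : u = v' * x' := by
      have h : u⁻¹ * (v' * x') ∈ D.liftU σ ⊓ σ.ker := Subgroup.mem_inf.2 ⟨mul_mem (inv_mem hu) (mul_mem hv' hx'),
        by rw [MonoidHom.mem_ker, map_mul, map_inv, map_mul, hv'σ, hx'σ, e, inv_mul_cancel]⟩
      rwa [hU0, Subgroup.mem_bot, inv_mul_eq_one] at h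
    subst hux
    have hv2 : N i * v' * (N i)⁻¹ ∈ D.liftU σ :=
      hconjU _ _ hv' (by rw [hNσ, hv'σ]; exact D.V_le i (D.n_V i v hv))
    have hxL : x' ∈ D.liftL σ i :=
      D.mem_liftL hs hc hcop (Or.inl (hx'σ ▸ hx)) ((hUiff x').1 hx').2
    have hNi : N i ∈ Nlift := subset_closure (Or.inl ⟨i, rfl⟩)
    rcases D.dich _ (hNσN hw) i with hd | hd
    · refine ⟨_, hv2, N i * w, mul_mem hNi hw, (w⁻¹ * x' * w) * u', mul_mem ?_ hu', by group⟩
      have := hconjU w⁻¹ x' hx' (by rw [map_inv, inv_inv, hx'σ]; exact hd x hx)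
      rwa [inv_inv] at this
    · have hy : σ (N i * x' * (N i)⁻¹) = D.n i * x * (D.n i)⁻¹ := by rw [map_mul, map_mul, map_inv, hNσ, hx'σ]
      obtain ⟨x₁, hx₁, h, hhH, hd'⟩ := D.dec i _ (D.n_X i x hx)
      have hX₁ : x₁ ∈ D.L i := subset_closure (Or.inl hx₁)
      have hyL : D.n i * x * (D.n i)⁻¹ ∈ D.L i := subset_closure (Or.inr (D.n_X i x hx))
      have hhL : h ∈ D.L i := by
        rcases hd' with e1 | ⟨x₂, hx₂, e1⟩
        · rw [show h = x₁⁻¹ * (D.n i * x * (D.n i)⁻¹) by rw [e1, inv_mul_cancel_left]]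
          exact mul_mem (inv_mem hX₁) hyL
        · rw [show h = x₁⁻¹ * (D.n i * x * (D.n i)⁻¹) * x₂⁻¹ * (D.n i)⁻¹ by rw [e1]; group]
          exact mul_mem (mul_mem (mul_mem (inv_mem hX₁) hyL) (inv_mem (subset_closure (Or.inl hx₂))))
            (inv_mem (D.n_mem i))
      obtain ⟨X₁, hX₁L, hX₁σ⟩ := D.exists_liftL hs hc hcop hL hX₁
      obtain ⟨Hh, hHL, hHhσ⟩ := D.exists_liftL hs hc hcop hL hhL
      have hHh : Hh ∈ D.liftH σ := D.liftH_mem hs hc hcop hL hHL (hHhσ ▸ hhH)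
      have hX₁U := hXU hX₁L (hX₁σ ▸ hx₁)
      have hyLl : N i * x' * (N i)⁻¹ ∈ D.liftL σ i := mul_mem (mul_mem (hN i) hxL) (inv_mem (hN i))
      rcases hd' with e1 | ⟨x₂, hx₂, e1⟩
      · have e2 : N i * x' * (N i)⁻¹ = X₁ * Hh :=
          D.liftL_inj hs hc hcop hL hyLl (mul_mem hX₁L hHL) (by rw [hy, map_mul, hX₁σ, hHhσ, e1])
        refine ⟨N i * v' * (N i)⁻¹ * X₁, mul_mem hv2 hX₁U, Hh * (N i * w),
          mul_mem (subset_closure (Or.inr hHh)) (mul_mem hNi hw), u', hu', ?_⟩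
        calc N i * (v' * x' * w * u') = N i * v' * (N i)⁻¹ * (N i * x' * (N i)⁻¹) * (N i * w) * u' := by group
          _ = _ := by rw [e2]; group
      · obtain ⟨X₂, hX₂L, hX₂σ⟩ := D.exists_liftL hs hc hcop hL
          (subset_closure (Or.inl hx₂) : x₂ ∈ D.L i)
        have hX₂U := hXU hX₂L (hX₂σ ▸ hx₂)
        have e2 : N i * x' * (N i)⁻¹ = X₁ * Hh * N i * X₂ :=
          D.liftL_inj hs hc hcop hL hyLl (mul_mem (mul_mem (mul_mem hX₁L hHL) (hN i)) hX₂L)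
            (by rw [hy, map_mul, map_mul, map_mul, hX₁σ, hHhσ, hX₂σ, hNσ, e1])
        have hx2' : w⁻¹ * ((N i * N i)⁻¹ * (N i * X₂ * (N i)⁻¹) * (N i * N i)) * w ∈ D.liftU σ := by
          have hy2 : (D.n i * D.n i)⁻¹ * (D.n i * x₂ * (D.n i)⁻¹) * (D.n i * D.n i) ∈ D.Y i := by
            have := D.conj_Y i _ (inv_mem (D.n_sq i)) _ (D.n_X i x₂ hx₂)
            rwa [inv_inv] at this
          refine (hUiff _).2 ⟨by simp only [map_mul, map_inv, hNσ, hX₂σ]; exact hd _ hy2, ?_⟩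
          have hp2 := ((hUiff X₂).1 hX₂U).2
          have ecj : ∀ (g z : Γ), (g⁻¹ * z * g) ^ Nat.card ↥D.U = g⁻¹ * z ^ Nat.card ↥D.U * g := fun g z => by
            have := conj_pow (a := g⁻¹) (b := z) (i := Nat.card ↥D.U)
            rwa [inv_inv] at this
          rw [ecj, ecj, conj_pow, hp2, mul_one, mul_inv_cancel, mul_one, inv_mul_cancel, mul_one, inv_mul_cancel]
        refine ⟨N i * v' * (N i)⁻¹ * X₁, mul_mem hv2 hX₁U, Hh * ((N i * N i) * w),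
          mul_mem (subset_closure (Or.inr hHh)) (mul_mem (mul_mem hNi hNi) hw), _, mul_mem hx2' hu', ?_⟩
        calc N i * (v' * x' * w * u') = N i * v' * (N i)⁻¹ * (N i * x' * (N i)⁻¹) * (N i * w) * u' := by group
          _ = _ := by rw [e2]; group
  let X0 : Subgroup Γ := closure ((D.liftU σ : Set Γ) ∪ Set.range N)
  have hinvN : ∀ i, ∀ g ∈ R, (N i)⁻¹ * g ∈ R := by
    intro i g hg
    obtain ⟨u, hu, w, hw, u', hu', e⟩ := hmulN i g hg
    have hh := inv_mem (hsq i)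
    refine ⟨(N i * N i)⁻¹ * u * (N i * N i)⁻¹⁻¹, hHU _ hh u hu, (N i * N i)⁻¹ * w,
      mul_mem (subset_closure (Or.inr hh)) hw, u', hu', ?_⟩
    rw [show (N i)⁻¹ * g = (N i * N i)⁻¹ * (N i * g) by group, e]
    group
  have hX0 : ∀ g ∈ X0, ∀ g' ∈ R, g * g' ∈ R := by
    intro g hg
    induction hg using closure_induction_left with
    | one => exact fun g' hg' => by rwa [one_mul]
    | mul_left x hx y _ ih =>
      intro g' hg'
      rw [mul_assoc]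
      rcases hx with hx | ⟨i, rfl⟩
      · obtain ⟨u, hu, w, hw, u', hu', e⟩ := ih g' hg'
        exact ⟨x * u, mul_mem hx hu, w, hw, u', hu', by rw [e]; group⟩
      · exact hmulN i _ (ih g' hg')
    | inv_mul_cancel x hx y _ ih =>
      intro g' hg'
      rw [mul_assoc]
      rcases hx with hx | ⟨i, rfl⟩
      · obtain ⟨u, hu, w, hw, u', hu', e⟩ := ih g' hg'
        exact ⟨x⁻¹ * u, mul_mem (inv_mem hx) hu, w, hw, u', hu', by rw [e]; group⟩
      · exact hinvN i _ (ih g' hg')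
  have hX0meet : ∀ g ∈ X0, σ g = 1 → g ∈ D.liftH σ := by
    intro g hg h1
    obtain ⟨u, hu, w, hw, u', hu', e⟩ := hX0 g hg 1 ⟨1, one_mem _, 1, one_mem _, 1, one_mem _, by group⟩
    rw [mul_one] at e
    subst e
    have hσw : σ w ∈ D.U := by
      rw [map_mul, map_mul] at h1
      rw [show σ w = (σ u)⁻¹ * (σ u * σ w * σ u') * (σ u')⁻¹ by group, h1, mul_one]
      exact mul_mem (inv_mem ((hUiff u).1 hu).1) (inv_mem ((hUiff u').1 hu').1)
    have hw1 : σ w = 1 := D.N_meet _ (hNσN hw) hσw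
    have hwH := hNmeet w hw (by rw [hw1]; exact one_mem _)
    have hwz : w ∈ σ.ker := hw1
    rw [map_mul, map_mul, hw1, mul_one, ← map_mul] at h1
    have huu : u * u' = 1 :=
      Subgroup.mem_bot.1 (hU0 ▸ (⟨mul_mem hu hu', h1⟩ : u * u' ∈ D.liftU σ ⊓ σ.ker))
    rw [mem_center_comm hc hwz u, mul_assoc, huu, mul_one]
    exact hwH
  have htop : X0.map σ = ⊤ := by
    rw [eq_top_iff, ← D.gen, closure_le]
    rintro g (hg | ⟨i, rfl⟩)
    · obtain ⟨x, hx, e⟩ := hexU le_rfl g hg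
      exact ⟨x, subset_closure (Or.inl hx), e⟩
    · exact ⟨N i, subset_closure (Or.inr ⟨i, rfl⟩), hNσ i⟩
  have hcomm : commutator Γ ≤ X0 := by
    rw [_root_.commutator_def, Subgroup.commutator_le]
    intro a _ b _
    have hfac : ∀ a : Γ, ∃ z ∈ σ.ker, ∃ x ∈ X0, a = z * x := fun a => by
      obtain ⟨x, hx, e⟩ := (show σ a ∈ X0.map σ by rw [htop]; trivial)
      exact ⟨a * x⁻¹, by rw [MonoidHom.mem_ker, map_mul, map_inv, e, mul_inv_cancel], x, hx, (inv_mul_cancel_right a x).symm⟩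
    obtain ⟨z, hz, x, hx, rfl⟩ := hfac a
    obtain ⟨z', hz', x', hx', rfl⟩ := hfac b
    rw [Cfsg.Lib.Schur.commutatorElement_mul_central (hc hz) (hc hz')]
    exact mul_mem (mul_mem (mul_mem hx hx') (inv_mem hx)) (inv_mem hx')
  rintro z ⟨hz, hz'⟩
  exact hX0meet z (hcomm hz') hz

/-- The kernel of a stem extension is the image of the relations between the rank one tori. -/
theorem card_ker_dvd [Fintype ι] [DecidableEq ι] (hle : σ.ker ≤ commutator Γ) {A : ι → Type u}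
    [∀ i, CommGroup (A i)] [∀ i, Finite (A i)] (α : ∀ i, A i →* G) (hα : ∀ i a, α i a ∈ D.L i ⊓ D.H)
    (hα' : ∀ i, D.L i ⊓ D.H ≤ (α i).range) (Φ : (∀ i, A i) →* G) (hΦ : ∀ i a, Φ (Pi.mulSingle i a) = α i a) :
    Nat.card σ.ker ∣ Nat.card Φ.ker := by
  choose β hβ hβσ using fun i a => D.exists_liftL hs hc hcop hL (hα i a).1
  let β' : ∀ i, A i →* Γ := fun i => MonoidHom.mk' (β i) fun a b =>
    D.liftL_inj hs hc hcop hL (hβ i _) (mul_mem (hβ i a) (hβ i b)) (by simp [map_mul, hβσ])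
  have hcm : Pairwise fun i j => ∀ (x : A i) (y : A j), Commute (β' i x) (β' j y) := fun i j _ x y =>
    D.tori_comm hs hc hcop hL (hβ i x) (by show σ (β i x) ∈ D.H; rw [hβσ]; exact (hα i x).2) (hβ j y)
      (by show σ (β j y) ∈ D.H; rw [hβσ]; exact (hα j y).2)
  let Ψ : (∀ i, A i) →* Γ := MonoidHom.noncommPiCoprod β' hcm
  have hΨ : ∀ i a, Ψ (Pi.mulSingle i a) = β i a := fun i a => MonoidHom.noncommPiCoprod_mulSingle _ i a
  have hσΨ : σ.comp Ψ = Φ := MonoidHom.pi_ext fun i x => by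
    rw [MonoidHom.comp_apply, hΨ, hβσ, hΦ]
  have hH : D.liftH σ ≤ Ψ.range := by
    refine (closure_le _).2 ?_
    rintro x ⟨i, hx, hxH⟩
    have hxL : σ x ∈ D.L i := by rw [← D.map_liftL hs hc hcop i]; exact mem_map_of_mem σ hx
    obtain ⟨a, ha⟩ := hα' i ⟨hxL, hxH⟩
    exact ⟨Pi.mulSingle i a, by rw [hΨ]; exact D.liftL_inj hs hc hcop hL (hβ i a) hx (by rw [hβσ, ha])⟩
  let ρ : ↥Φ.ker →* ↥σ.ker := (Ψ.comp Φ.ker.subtype).codRestrict σ.ker fun y => by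
    show σ (Ψ y) = 1
    rw [← MonoidHom.comp_apply, hσΨ]; exact y.2
  refine Subgroup.card_dvd_of_surjective ρ fun z => ?_
  obtain ⟨y, hy⟩ := hH (D.ker_le_liftH hs hc hcop hL ⟨z.2, hle z.2⟩)
  refine ⟨⟨y, ?_⟩, Subtype.ext hy⟩
  rw [MonoidHom.mem_ker, ← hσΨ, MonoidHom.comp_apply, hy]
  exact z.2

end RankN

end Cfsg.Lib.Chev.TwMult
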